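import Mathlib
import Cfsg.Agent.Lib.Orth.Omega

/-!
Zassenhaus' formula: an isometry `z` without eigenvalue `-1` has spinor sign the square class of
`det ((1 + z) / 2)`.
-/

set_option autoImplicit false
set_option linter.unusedSectionVars false

namespace Cfsg.Agent.Lib.POmegaSemi

open QuadraticMap Matrix

universe u

variable {F : Type u} [Field F] {ι : Type} [Fintype ι] [DecidableEq ι]

/-- The Gram matrix of the polar form. -/
noncomputable def polarMat (Q : QuadraticForm F (ι → F)) : Matrix ι ι F :=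
  LinearMap.toMatrix₂' F Q.polarBilin

variable {Q : QuadraticForm F (ι → F)}

theorem polar_eq_dot (v w : ι → F) : polar Q v w = v ⬝ᵥ (polarMat Q *ᵥ w) := by
  rw [← Matrix.toLinearMap₂'_apply', polarMat, Matrix.toLinearMap₂'_toMatrix']
  rfl

theorem polarMat_transpose : (polarMat Q)ᵀ = polarMat Q := by
  ext i j
  simp only [polarMat, transpose_apply, LinearMap.toMatrix₂'_apply, QuadraticMap.polarBilin_apply_apply]
  exact polar_comm _ _ _

theorem polarMat_det (hQ : (QuadraticMap.polarBilin Q).Nondegenerate) : (polarMat Q).det ≠ 0 := by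
  intro h
  obtain ⟨v, hv0, hv⟩ := Matrix.exists_mulVec_eq_zero_iff.2 h
  refine hv0 (hQ.2 v fun w => ?_)
  show polar Q w v = 0
  rw [polar_eq_dot, hv, dotProduct_zero]

/-- Equal bilinear values give equal matrices. -/
theorem matrix_eq_of_dot {κ : Type*} [Fintype κ] [DecidableEq κ] {A B : Matrix κ κ F}
    (h : ∀ v w, v ⬝ᵥ (A *ᵥ w) = v ⬝ᵥ (B *ᵥ w)) : A = B := by
  ext i j
  have := h (Pi.single i 1) (Pi.single j 1)
  simpa [single_dotProduct, mulVec_single] using this

theorem polar_mulVec (A B : Matrix ι ι F) (v w : ι → F) :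
    polar Q (A *ᵥ v) (B *ᵥ w) = v ⬝ᵥ ((Aᵀ * polarMat Q * B) *ᵥ w) := by
  rw [polar_eq_dot, ← mulVec_mulVec, ← mulVec_mulVec, dotProduct_mulVec v Aᵀ, vecMul_transpose]

/-- A matrix preserving `Q`, as an element of the isometry group. -/
noncomputable def isoMk (M : Matrix ι ι F) (hdet : M.det ≠ 0) (h : ∀ v, Q (M *ᵥ v) = Q v) :
    ↥(Cfsg.isometryGroup F ⇑Q) :=
  ⟨Matrix.GeneralLinearGroup.mkOfDetNeZero M hdet, Orth.mem_isometryGroup_iff.2 h⟩

theorem app_isoMk {M : Matrix ι ι F} (hdet : M.det ≠ 0) (h : ∀ v, Q (M *ᵥ v) = Q v) (v : ι → F) :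
    Orth.app (isoMk M hdet h) v = M *ᵥ v := rfl

theorem odd_ringChar' [Finite F] (h2 : (2 : F) ≠ 0) : Odd (ringChar F) := by
  haveI : Fact (ringChar F).Prime := ⟨CharP.char_is_prime F _⟩
  refine (Fact.out : (ringChar F).Prime).odd_of_ne_two fun h => h2 ?_
  have := ringChar.Nat.cast_ringChar (R := F)
  rw [h] at this
  exact_mod_cast this

theorem sign_eq_one_of_pow {M : Type*} [Monoid M] (χ : M →* ℤˣ) {x : M} {p : ℕ} (hp : Odd p)
    (hx : x ^ p = 1) : χ x = 1 := by
  have h := congrArg χ hx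
  rw [map_pow, map_one] at h
  rcases Int.units_eq_one_or (χ x) with h1 | h1
  · exact h1
  · rw [h1, hp.neg_one_pow] at h
    exact absurd h (by decide)

/-- The quadratic residue sign. -/
noncomputable def sqsgn [Fintype F] : Fˣ →* ℤˣ := by
  classical exact (quadraticChar F).toUnitHom

theorem sqsgn_one_iff [Fintype F] (c : Fˣ) : sqsgn c = 1 ↔ IsSquare (c : F) := by
  classical
  rw [← quadraticChar_one_iff_isSquare c.ne_zero, ← Units.val_inj]
  rfl

theorem sqsgn_eq [Fintype F] (c : Fˣ) [Decidable (IsSquare (c : F))] :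
    sqsgn c = if IsSquare (c : F) then 1 else -1 := by
  split_ifs with h
  · exact (sqsgn_one_iff c).2 h
  · exact (Int.units_eq_one_or _).resolve_left fun h' => h ((sqsgn_one_iff c).1 h')

theorem spinor_refl_sqsgn [Fintype F] (h2 : (2 : F) ≠ 0) {v : ι → F} (hv : Q v ≠ 0) :
    Orth.spinor Q (Orth.refl Q v hv) = -sqsgn (Units.mk0 (Q v) hv) := by
  classical
  rw [Orth.spinor_refl h2 hv]
  split_ifs with h
  · rw [(sqsgn_one_iff (Units.mk0 (Q v) hv)).2 h]
  · rw [(Int.units_eq_one_or _).resolve_left fun h' => h ((sqsgn_one_iff (Units.mk0 (Q v) hv)).1 h'), neg_neg]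

section Hyp

variable (Q) in
/-- The form `2 polar(x, y)` on `V ⊕ V`. -/
noncomputable def hypForm : QuadraticForm F (ι ⊕ ι → F) :=
  LinearMap.BilinMap.toQuadraticMap ((2 : F) • Q.polarBilin.compl₁₂ (LinearMap.funLeft F F Sum.inl)
    (LinearMap.funLeft F F Sum.inr))

theorem hypForm_apply (v : ι ⊕ ι → F) : hypForm Q v = 2 * polar Q (v ∘ Sum.inl) (v ∘ Sum.inr) := rfl

theorem hypForm_elim (x y : ι → F) : hypForm Q (Sum.elim x y) = 2 * polar Q x y := by
  rw [hypForm_apply, Sum.elim_comp_inl, Sum.elim_comp_inr]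

theorem polar_hypForm (x y x' y' : ι → F) :
    polar (hypForm Q) (Sum.elim x y) (Sum.elim x' y') = 2 * (polar Q x y' + polar Q x' y) := by
  rw [polar, show Sum.elim x y + Sum.elim x' y' = Sum.elim (x + x') (y + y') from by
    funext i; cases i <;> rfl, hypForm_elim, hypForm_elim, hypForm_elim,
    polar_add_left, polar_add_right, polar_add_right]
  ring

/-- A block matrix preserving the hyperbolic form. -/
theorem hypForm_block {A B C D : Matrix ι ι F}
    (h : ∀ x y, polar Q (A *ᵥ x + B *ᵥ y) (C *ᵥ x + D *ᵥ y) = polar Q x y) (v : ι ⊕ ι → F) :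
    hypForm Q (fromBlocks A B C D *ᵥ v) = hypForm Q v := by
  rw [fromBlocks_mulVec, hypForm_elim, h, hypForm_apply]

/-- Upper unipotent block. -/
noncomputable def upperU (S : Matrix ι ι F) (hS : ∀ x, polar Q (S *ᵥ x) x = 0) :
    ↥(Cfsg.isometryGroup F ⇑(hypForm Q)) :=
  isoMk (fromBlocks 1 S 0 1) (by simp) (hypForm_block fun x y => by
    rw [one_mulVec, zero_mulVec, one_mulVec, zero_add, polar_add_left, hS, add_zero])

/-- Lower unipotent block. -/
noncomputable def lowerU (S : Matrix ι ι F) (hS : ∀ x, polar Q (S *ᵥ x) x = 0) :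
    ↥(Cfsg.isometryGroup F ⇑(hypForm Q)) :=
  isoMk (fromBlocks 1 0 S 1) (by simp) (hypForm_block fun x y => by
    rw [one_mulVec, zero_mulVec, one_mulVec, add_zero, polar_add_right, polar_comm _ x (S *ᵥ x), hS, zero_add])

variable [Fintype F]

theorem spinor_upperU (h2 : (2 : F) ≠ 0) (S : Matrix ι ι F) (hS : ∀ x, polar Q (S *ᵥ x) x = 0) :
    Orth.spinor (hypForm Q) (upperU S hS) = 1 := by
  refine sign_eq_one_of_pow _ (odd_ringChar' h2) (Subtype.ext (Units.ext ?_))
  show (fromBlocks (1 : Matrix ι ι F) S 0 (1 : Matrix ι ι F)) ^ ringChar F = 1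
  have key : ∀ k : ℕ, (fromBlocks (1 : Matrix ι ι F) S 0 (1 : Matrix ι ι F)) ^ k = fromBlocks 1 ((k : F) • S) 0 1 := by
    intro k
    induction k with
    | zero => simp
    | succ k ih =>
      rw [pow_succ, ih, fromBlocks_multiply, Nat.cast_succ, add_smul, one_smul]
      simp [add_comm]
  rw [key, ringChar.Nat.cast_ringChar, zero_smul, fromBlocks_one]

theorem spinor_lowerU (h2 : (2 : F) ≠ 0) (S : Matrix ι ι F) (hS : ∀ x, polar Q (S *ᵥ x) x = 0) :
    Orth.spinor (hypForm Q) (lowerU S hS) = 1 := by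
  refine sign_eq_one_of_pow _ (odd_ringChar' h2) (Subtype.ext (Units.ext ?_))
  show (fromBlocks (1 : Matrix ι ι F) 0 S (1 : Matrix ι ι F)) ^ ringChar F = 1
  have key : ∀ k : ℕ, (fromBlocks (1 : Matrix ι ι F) 0 S (1 : Matrix ι ι F)) ^ k = fromBlocks 1 0 ((k : F) • S) 1 := by
    intro k
    induction k with
    | zero => simp
    | succ k ih =>
      rw [pow_succ, ih, fromBlocks_multiply, Nat.cast_succ, add_smul, one_smul]
      simp
  rw [key, ringChar.Nat.cast_ringChar, zero_smul, fromBlocks_one]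

variable (hQ : (QuadraticMap.polarBilin Q).Nondegenerate)
include hQ

variable (Q) in
omit hQ in
/-- The dual inverse. -/
noncomputable def dualInv (M : GL ι F) : Matrix ι ι F :=
  (polarMat Q)⁻¹ * ((M⁻¹ : GL ι F) : Matrix ι ι F)ᵀ * polarMat Q

theorem dualInv_mul (M N : GL ι F) : dualInv Q (M * N) = dualInv Q M * dualInv Q N := by
  simp only [dualInv, _root_.mul_inv_rev, Units.val_mul, transpose_mul]
  have h : polarMat Q * (polarMat Q)⁻¹ = 1 := Matrix.mul_nonsing_inv _ (Ne.isUnit (polarMat_det hQ))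
  calc _ = (polarMat Q)⁻¹ * ((M⁻¹ : GL ι F) : Matrix ι ι F)ᵀ * (polarMat Q * (polarMat Q)⁻¹)
        * ((N⁻¹ : GL ι F) : Matrix ι ι F)ᵀ * polarMat Q := by rw [h, Matrix.mul_one]; simp [Matrix.mul_assoc]
    _ = _ := by simp [Matrix.mul_assoc]

theorem dualInv_one : dualInv Q (1 : GL ι F) = 1 := by
  simp [dualInv, Matrix.nonsing_inv_mul _ (Ne.isUnit (polarMat_det hQ))]

theorem polar_dualInv (M : GL ι F) (x y : ι → F) :
    polar Q ((M : Matrix ι ι F) *ᵥ x) (dualInv Q M *ᵥ y) = polar Q x y := by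
  rw [polar_mulVec, polar_eq_dot]
  congr 2
  simp only [dualInv, ← Matrix.mul_assoc]
  rw [Matrix.mul_nonsing_inv_cancel_right _ _ (Ne.isUnit (polarMat_det hQ)), ← transpose_mul, Units.inv_mul,
    transpose_one, Matrix.one_mul]

/-- The Levi subgroup `GL(V)`. -/
noncomputable def levi : GL ι F →* ↥(Cfsg.isometryGroup F ⇑(hypForm Q)) :=
  MonoidHom.mk' (fun M => isoMk (fromBlocks (M : Matrix ι ι F) 0 0 (dualInv Q M))
      (by
        have h : dualInv Q M * dualInv Q M⁻¹ = 1 := by rw [← dualInv_mul hQ, mul_inv_cancel, dualInv_one hQ]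
        rw [det_fromBlocks_zero₁₂]
        refine mul_ne_zero ((Matrix.isUnit_iff_isUnit_det _).1 M.isUnit).ne_zero ?_
        intro h0
        have := congrArg Matrix.det h
        rw [det_mul, h0, zero_mul, det_one] at this
        exact zero_ne_one this)
      (hypForm_block fun x y => by rw [zero_mulVec, add_zero, zero_mulVec, zero_add, polar_dualInv hQ]))
    fun M N => Subtype.ext (Units.ext (by
      show fromBlocks _ _ _ _ = fromBlocks _ _ _ _ * fromBlocks _ _ _ _
      simp [fromBlocks_multiply, dualInv_mul hQ]))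

variable (Q) in
omit hQ in
/-- The diagonal embedding of `O(V)`. -/
noncomputable def dblHom (h2 : (2 : F) ≠ 0) :
    ↥(Cfsg.isometryGroup F ⇑Q) →* ↥(Cfsg.isometryGroup F ⇑(hypForm Q)) :=
  MonoidHom.mk' (fun z =>
    isoMk (fromBlocks ((2 : F)⁻¹ • (((z : GL ι F) : Matrix ι ι F) + 1))
        ((2 : F)⁻¹ • (((z : GL ι F) : Matrix ι ι F) - 1))
        ((2 : F)⁻¹ • (((z : GL ι F) : Matrix ι ι F) - 1))
        ((2 : F)⁻¹ • (((z : GL ι F) : Matrix ι ι F) + 1)))
      (by
        refine fun h0 => zero_ne_one (α := F) ?_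
        have h := congrArg Matrix.det (show fromBlocks ((2 : F)⁻¹ • (((z : GL ι F) : Matrix ι ι F) + 1))
          ((2 : F)⁻¹ • (((z : GL ι F) : Matrix ι ι F) - 1))
          ((2 : F)⁻¹ • (((z : GL ι F) : Matrix ι ι F) - 1))
          ((2 : F)⁻¹ • (((z : GL ι F) : Matrix ι ι F) + 1)) *
          fromBlocks ((2 : F)⁻¹ • ((((z : GL ι F)⁻¹ : GL ι F) : Matrix ι ι F) + 1))
          ((2 : F)⁻¹ • ((((z : GL ι F)⁻¹ : GL ι F) : Matrix ι ι F) - 1))
          ((2 : F)⁻¹ • ((((z : GL ι F)⁻¹ : GL ι F) : Matrix ι ι F) - 1))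
          ((2 : F)⁻¹ • ((((z : GL ι F)⁻¹ : GL ι F) : Matrix ι ι F) + 1)) = 1 from by
            rw [fromBlocks_multiply, ← fromBlocks_one]
            simp only [Matrix.smul_mul, Matrix.mul_smul, smul_smul, ← smul_add, add_mul, mul_add, sub_mul, mul_sub,
              Units.mul_inv, Matrix.one_mul, Matrix.mul_one]
            congr 1 <;> match_scalars <;> field_simp <;> ring)
        rw [det_mul, h0, zero_mul, det_one] at h
        exact h)
      (hypForm_block fun x y => by
        have hz : ∀ a b : ι → F, polar Q (((z : GL ι F) : Matrix ι ι F) *ᵥ a)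
            (((z : GL ι F) : Matrix ι ι F) *ᵥ b) = polar Q a b := fun a b => Orth.polar_app z a b
        have hxy : ∀ c : ι → F, polar Q c x = polar Q x c := fun c => polar_comm _ _ _
        simp only [smul_mulVec, add_mulVec, sub_mulVec, one_mulVec, sub_eq_add_neg, smul_add, smul_neg,
          polar_add_left, polar_add_right, polar_neg_left, polar_neg_right, polar_smul_left, polar_smul_right,
          smul_eq_mul, hz, neg_mulVec, polar_comm (⇑Q) y x]
        field_simp
        rw [polar_comm (⇑Q) y (((z : GL ι F) : Matrix ι ι F) *ᵥ x),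
          polar_comm (⇑Q) x (((z : GL ι F) : Matrix ι ι F) *ᵥ x),
          polar_comm (⇑Q) y (((z : GL ι F) : Matrix ι ι F) *ᵥ y),
          polar_comm (⇑Q) x (((z : GL ι F) : Matrix ι ι F) *ᵥ y)]
        ring))
    fun a b => Subtype.ext (Units.ext (by
      show fromBlocks _ _ _ _ = fromBlocks _ _ _ _ * fromBlocks _ _ _ _
      rw [fromBlocks_multiply]
      simp only [Subgroup.coe_mul, Units.val_mul, Matrix.smul_mul, Matrix.mul_smul, smul_smul,
        add_mul, mul_add, sub_mul, mul_sub, Matrix.one_mul, Matrix.mul_one]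
      congr 1 <;> match_scalars <;> field_simp <;> ring))

theorem dblHom_refl (h2 : (2 : F) ≠ 0) {v : ι → F} (hv : Q v ≠ 0)
    (hw : hypForm Q (Sum.elim ((2 : F)⁻¹ • v) ((2 : F)⁻¹ • v)) ≠ 0) :
    dblHom Q h2 (Orth.refl Q v hv) = Orth.refl (hypForm Q) _ hw := by
  refine Orth.isometry_ext fun x => ?_
  obtain ⟨a, b, rfl⟩ : ∃ a b, x = Sum.elim a b := ⟨x ∘ Sum.inl, x ∘ Sum.inr, (Sum.elim_comp_inl_inr x).symm⟩
  rw [Orth.app_refl, polar_hypForm, hypForm_elim, polar_smul_left, polar_smul_left, polar_smul_right,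
    polar_self, polar_comm (⇑Q) a]
  show fromBlocks _ _ _ _ *ᵥ Sum.elim a b = _
  rw [fromBlocks_mulVec, Sum.elim_comp_inl, Sum.elim_comp_inr]
  have hR : ∀ c : ι → F, (((Orth.refl Q v hv : ↥(Cfsg.isometryGroup F ⇑Q)) : GL ι F) : Matrix ι ι F) *ᵥ c
      = c - ((Q v)⁻¹ * polar Q v c) • v := fun c => by
    rw [show (((Orth.refl Q v hv : ↥(Cfsg.isometryGroup F ⇑Q)) : GL ι F) : Matrix ι ι F) *ᵥ c
      = Orth.app (Orth.refl Q v hv) c from rfl, Orth.app_refl]
  simp only [smul_mulVec, add_mulVec, sub_mulVec, one_mulVec, hR]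
  funext i
  rcases i with i | i <;> simp <;> field_simp <;> ring

theorem spinor_dblHom (h2 : (2 : F) ≠ 0) (hn : 2 ≤ Fintype.card ι) (z : ↥(Cfsg.isometryGroup F ⇑Q)) :
    Orth.spinor (hypForm Q) (dblHom Q h2 z) = Orth.spinor Q z := by
  obtain ⟨a, b, ha, hb, hsa, hsb⟩ := Orth.exists_two_classes h2 hQ hn
  have key : ∀ (v : ι → F) (hv : Q v ≠ 0), ((Orth.spinor (hypForm Q)).comp (dblHom Q h2)) (Orth.refl Q v hv)
      = Orth.spinor Q (Orth.refl Q v hv) := by
    intro v hv
    have e : hypForm Q (Sum.elim ((2 : F)⁻¹ • v) ((2 : F)⁻¹ • v)) = Q v := by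
      rw [hypForm_elim, polar_smul_left, polar_smul_right, polar_self, two_smul]
      simp only [smul_eq_mul]
      field_simp
      ring
    rw [MonoidHom.comp_apply, dblHom_refl hQ h2 hv (by rw [e]; exact hv), spinor_refl_sqsgn h2,
      spinor_refl_sqsgn h2]
    exact congrArg (fun c => -sqsgn c) (Units.ext e)
  exact DFunLike.congr_fun (Orth.hom_ext_two h2 hQ ha hb hsa hsb (key a ha) (key b hb)) z

/-- The Levi element scaling an anisotropic line is a product of two reflections. -/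
theorem spinor_levi_line (h2 : (2 : F) ≠ 0) {u : ι → F} (hu : Q u ≠ 0) (d : Fˣ) (M : GL ι F)
    (hM : ∀ a, (M : Matrix ι ι F) *ᵥ a = a + (((d : F) - 1) * (polar Q u a / (2 * Q u))) • u) :
    Orth.spinor (hypForm Q) (levi hQ M) = sqsgn d := by
  have h4 : (4 : F) ≠ 0 := by
    rw [show (4 : F) = 2 * 2 by norm_num]; exact mul_ne_zero h2 h2
  have huu : polar Q u u = 2 * Q u := by rw [polar_self, two_smul]; ring
  have hval : ∀ c : F, hypForm Q (Sum.elim u (-(c • u))) = -(4 * c * Q u) := fun c => by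
    rw [hypForm_elim, polar_neg_right, polar_smul_right, huu, smul_eq_mul]; ring
  have hw1 : hypForm Q (Sum.elim u (-((d : F) • u))) ≠ 0 := by
    rw [hval]; exact neg_ne_zero.2 (mul_ne_zero (mul_ne_zero h4 d.ne_zero) hu)
  have hw2 : hypForm Q (Sum.elim u (-((1 : F) • u))) ≠ 0 := by
    rw [hval]; exact neg_ne_zero.2 (mul_ne_zero (mul_ne_zero h4 one_ne_zero) hu)
  have hN : ∀ b, dualInv Q M *ᵥ b = b + (((d : F)⁻¹ - 1) * (polar Q u b / (2 * Q u))) • u := by
    intro b
    refine sub_eq_zero.1 (hQ.1 _ fun x => ?_)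
    show polar Q _ x = 0
    obtain ⟨a, rfl⟩ : ∃ a, x = (M : Matrix ι ι F) *ᵥ a :=
      ⟨((M⁻¹ : GL ι F) : Matrix ι ι F) *ᵥ x, by rw [mulVec_mulVec, Units.mul_inv, one_mulVec]⟩
    rw [sub_eq_add_neg, polar_add_left, polar_neg_left, polar_comm _ (dualInv Q M *ᵥ b), polar_dualInv hQ, hM]
    simp only [polar_add_left, polar_add_right, polar_smul_left, polar_smul_right, huu, smul_eq_mul,
      polar_comm (⇑Q) b u, polar_comm (⇑Q) b a]
    have := d.ne_zero
    field_simp
    ring
  have heq : levi hQ M = Orth.refl (hypForm Q) _ hw2 * Orth.refl (hypForm Q) _ hw1 := by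
    refine Orth.isometry_ext fun x => ?_
    obtain ⟨a, b, rfl⟩ : ∃ a b, x = Sum.elim a b := ⟨x ∘ Sum.inl, x ∘ Sum.inr, (Sum.elim_comp_inl_inr x).symm⟩
    rw [Orth.app_mul, Orth.app_refl, Orth.app_refl, hval, hval]
    show fromBlocks _ _ _ _ *ᵥ Sum.elim a b = _
    rw [fromBlocks_mulVec, Sum.elim_comp_inl, Sum.elim_comp_inr, zero_mulVec, zero_mulVec, add_zero, zero_add,
      hM, hN]
    simp only [polar_sub_right, polar_smul_right, polar_hypForm, polar_neg_right, huu,
      polar_comm (⇑Q) a u, smul_eq_mul]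
    have := d.ne_zero
    funext i
    rcases i with i | i <;> simp <;> field_simp <;> ring
  rw [heq, map_mul, spinor_refl_sqsgn h2, spinor_refl_sqsgn h2, neg_mul_neg, ← map_mul]
  have hsq : Units.mk0 _ hw2 * Units.mk0 _ hw1
      = (Units.mk0 (4 * Q u) (mul_ne_zero h4 hu)) * (Units.mk0 (4 * Q u) (mul_ne_zero h4 hu)) * d := by
    refine Units.ext ?_
    simp only [Units.val_mul, Units.val_mk0, hval]
    ring
  rw [hsq, map_mul, map_mul, Int.units_mul_self, one_mul]

/-- The spinor sign of a Levi element is the square class of its determinant. -/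
theorem spinor_levi (h2 : (2 : F) ≠ 0) (hn : 2 ≤ Fintype.card ι) (M : GL ι F) :
    Orth.spinor (hypForm Q) (levi hQ M) = sqsgn (Matrix.GeneralLinearGroup.det M) := by
  classical
  haveI : Nonempty ι := Fintype.card_pos_iff.1 (by omega)
  obtain ⟨i₀⟩ : Nonempty ι := inferInstance
  set χ : GL ι F →* ℤˣ := (Orth.spinor (hypForm Q)).comp (levi hQ)
  let D : (ι → Fˣ) →* GL ι F :=
    { toFun := fun f => ⟨diagonal fun i => (f i : F), diagonal fun i => ((f i)⁻¹ : Fˣ),
        by simp [diagonal_mul_diagonal], by simp [diagonal_mul_diagonal]⟩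
      map_one' := Units.ext (by simp)
      map_mul' := fun f g => Units.ext (by simp [diagonal_mul_diagonal]) }
  let ψ : Fˣ →* ℤˣ := (χ.comp D).comp (MonoidHom.mulSingle (fun _ => Fˣ) i₀)
  have hψ : ∀ (i : ι) (c : Fˣ), χ (D (Pi.mulSingle i c)) = ψ c := by
    intro i c
    let P : GL ι F := ⟨(Equiv.swap i i₀).toPEquiv.toMatrix, (Equiv.swap i i₀).toPEquiv.toMatrix,
      by rw [← PEquiv.toMatrix_trans, ← Equiv.toPEquiv_trans]; simp [PEquiv.toMatrix_refl],
      by rw [← PEquiv.toMatrix_trans, ← Equiv.toPEquiv_trans]; simp [PEquiv.toMatrix_refl]⟩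
    have hconj : P * D (Pi.mulSingle i₀ c) = D (Pi.mulSingle i c) * P := by
      refine Units.ext ?_
      ext a b
      show (((Equiv.swap i i₀).toPEquiv.toMatrix : Matrix ι ι F) * diagonal fun j => ((Pi.mulSingle i₀ c : ι → Fˣ) j : F)) a b
        = ((diagonal fun j => ((Pi.mulSingle i c : ι → Fˣ) j : F)) * ((Equiv.swap i i₀).toPEquiv.toMatrix : Matrix ι ι F)) a b
      rw [mul_diagonal, diagonal_mul, PEquiv.toMatrix_apply]
      by_cases h : Equiv.swap i i₀ a = b
      · subst h
        simp only [Equiv.toPEquiv_apply, Option.mem_def, if_true, one_mul, mul_one, Pi.mulSingle_apply]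
        by_cases hai : a = i
        · subst hai; simp
        · rw [if_neg hai, if_neg]
          intro h1
          exact hai (by simpa using congrArg (Equiv.swap i i₀) h1)
      · simp [Equiv.toPEquiv_apply, h]
    have := congrArg χ hconj
    rw [map_mul, map_mul, mul_comm] at this
    exact (mul_right_cancel this).symm
  have hfac : ∀ A : Matrix ι ι F, ∀ hA : A.det ≠ 0,
      χ (Matrix.GeneralLinearGroup.mkOfDetNeZero A hA) = ψ (Units.mk0 A.det hA) := by
    intro A hA
    refine Matrix.diagonal_transvection_induction_of_det_ne_zero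
      (fun A => ∀ hA : A.det ≠ 0, χ (Matrix.GeneralLinearGroup.mkOfDetNeZero A hA) = ψ (Units.mk0 A.det hA))
      A hA ?_ ?_ ?_ hA
    · intro f hf hf'
      have hf0 : ∀ i, f i ≠ 0 := fun i => by
        rw [det_diagonal, Finset.prod_ne_zero_iff] at hf
        exact hf i (Finset.mem_univ i)
      let g : ι → Fˣ := fun i => Units.mk0 (f i) (hf0 i)
      rw [show Matrix.GeneralLinearGroup.mkOfDetNeZero (diagonal f) hf' = D g from Units.ext rfl,
        show Units.mk0 (diagonal f).det hf' = ∏ i, g i from Units.ext (by simp [det_diagonal, g])]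
      conv_lhs => rw [← Finset.univ_prod_mulSingle g]
      rw [← MonoidHom.comp_apply, map_prod, map_prod]
      exact Finset.prod_congr rfl fun i _ => hψ i (g i)
    · intro t ht
      rw [show Units.mk0 t.toMatrix.det ht = 1 from Units.ext (Matrix.TransvectionStruct.det t), map_one]
      refine sign_eq_one_of_pow χ (odd_ringChar' h2) (Units.ext ?_)
      show t.toMatrix ^ ringChar F = 1
      have key : ∀ k : ℕ, t.toMatrix ^ k = transvection t.i t.j ((k : F) * t.c) := by
        intro k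
        induction k with
        | zero => simp [transvection_zero]
        | succ k ih =>
          rw [pow_succ, ih, TransvectionStruct.toMatrix, transvection_mul_transvection_same _ _ t.hij,
            Nat.cast_succ, add_mul, one_mul]
      rw [key, ringChar.Nat.cast_ringChar, zero_mul, transvection_zero]
    · intro A B hA hB eA eB hAB
      rw [show Matrix.GeneralLinearGroup.mkOfDetNeZero (A * B) hAB
          = Matrix.GeneralLinearGroup.mkOfDetNeZero A hA * Matrix.GeneralLinearGroup.mkOfDetNeZero B hB from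
          Units.ext rfl,
        show Units.mk0 (A * B).det hAB = Units.mk0 A.det hA * Units.mk0 B.det hB from Units.ext (det_mul A B),
        map_mul, map_mul, eA hA, eB hB]
  have hdet : ∀ N : GL ι F, χ N = ψ (Matrix.GeneralLinearGroup.det N) := by
    intro N
    have h0 : (N : Matrix ι ι F).det ≠ 0 := ((Matrix.isUnit_iff_isUnit_det _).1 N.isUnit).ne_zero
    rw [show N = Matrix.GeneralLinearGroup.mkOfDetNeZero (N : Matrix ι ι F) h0 from Units.ext rfl, hfac]
    exact congrArg ψ (Units.ext rfl)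
  have hψq : ∀ d : Fˣ, ψ d = sqsgn d := by
    intro d
    obtain ⟨u, -, hu, -, -, -⟩ := Orth.exists_two_classes h2 hQ hn
    set A : Matrix ι ι F :=
      1 + vecMulVec ((((d : F) - 1) / (2 * Q u)) • u) (polarMat Q *ᵥ u) with hAdef
    have hdetA : A.det = (d : F) := by
      rw [hAdef, vecMulVec_eq Unit, det_one_add_replicateCol_mul_replicateRow, dotProduct_smul, dotProduct_comm,
        ← polar_eq_dot, polar_self, two_smul, smul_eq_mul]
      field_simp
      ring
    have h0 : A.det ≠ 0 := hdetA ▸ d.ne_zero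
    have h1 := spinor_levi_line hQ h2 hu d (Matrix.GeneralLinearGroup.mkOfDetNeZero A h0) fun a => by
      show A *ᵥ a = _
      rw [hAdef, add_mulVec, one_mulVec, vecMulVec_mulVec, dotProduct_comm, ← polar_eq_dot, polar_comm]
      funext i
      simp
      field_simp
    rw [← h1]
    show ψ d = χ _
    rw [hfac]
    exact congrArg ψ (Units.ext hdetA.symm)
  show χ M = _
  rw [hdet, hψq]

/-- Zassenhaus' formula. -/
theorem spinor_zassenhaus (h2 : (2 : F) ≠ 0) (hn : 2 ≤ Fintype.card ι) (z : ↥(Cfsg.isometryGroup F ⇑Q))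
    (hP : ((2 : F)⁻¹ • (((z : GL ι F) : Matrix ι ι F) + 1)).det ≠ 0) :
    Orth.spinor Q z = sqsgn (Units.mk0 _ hP) := by
  set Z := ((z : GL ι F) : Matrix ι ι F) with hZ
  set P := (2 : F)⁻¹ • (Z + 1) with hPdef
  set R := (2 : F)⁻¹ • (Z - 1) with hRdef
  have hPu : IsUnit P.det := Ne.isUnit hP
  have hPZ : Commute P Z := by
    rw [hPdef]; exact ((Commute.refl Z).add_left (Commute.one_left Z)).smul_left _
  have hPR : Commute P R := by
    rw [hRdef]; exact (hPZ.sub_right (Commute.one_right P)).smul_right _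
  have hR' : R * P⁻¹ = P⁻¹ * R := by
    calc R * P⁻¹ = P⁻¹ * (P * R) * P⁻¹ := by
          rw [← Matrix.mul_assoc P⁻¹, Matrix.nonsing_inv_mul _ hPu, Matrix.one_mul]
      _ = P⁻¹ * R * (P * P⁻¹) := by rw [hPR.eq]; simp only [Matrix.mul_assoc]
      _ = P⁻¹ * R := by rw [Matrix.mul_nonsing_inv _ hPu, Matrix.mul_one]
  set S := P⁻¹ * R
  have hz : ∀ a b : ι → F, polar Q (Z *ᵥ a) (Z *ᵥ b) = polar Q a b := fun a b => Orth.polar_app z a b
  have hS : ∀ x, polar Q (S *ᵥ x) x = 0 := by
    intro x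
    obtain ⟨y, rfl⟩ : ∃ y, x = P *ᵥ y :=
      ⟨P⁻¹ *ᵥ x, by rw [mulVec_mulVec, Matrix.mul_nonsing_inv _ hPu, one_mulVec]⟩
    rw [mulVec_mulVec, show S * P = R from by
      rw [← hR', Matrix.mul_assoc, Matrix.nonsing_inv_mul _ hPu, Matrix.mul_one], hPdef, hRdef]
    simp only [smul_mulVec, add_mulVec, sub_mulVec, one_mulVec, sub_eq_add_neg, polar_add_left,
      polar_add_right, polar_neg_left, polar_smul_left, polar_smul_right, smul_eq_mul, hz, neg_mulVec,
      polar_comm (⇑Q) y (Z *ᵥ y)]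
    ring
  set M : GL ι F := Matrix.GeneralLinearGroup.mkOfDetNeZero P hP with hM
  have hN : dualInv Q M = P⁻¹ * Z := by
    have h1 : ∀ x y, polar Q (P *ᵥ x) ((P⁻¹ * Z) *ᵥ y) = polar Q x y := by
      intro x y
      have hcomm : P⁻¹ * Z = Z * P⁻¹ := by
        calc P⁻¹ * Z = P⁻¹ * (Z * P) * P⁻¹ := by
              rw [Matrix.mul_assoc P⁻¹, Matrix.mul_assoc Z, Matrix.mul_nonsing_inv _ hPu, Matrix.mul_one]
          _ = P⁻¹ * (P * Z) * P⁻¹ := by rw [hPZ.eq]
          _ = Z * P⁻¹ := by rw [← Matrix.mul_assoc P⁻¹, Matrix.nonsing_inv_mul _ hPu, Matrix.one_mul]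
      obtain ⟨w, rfl⟩ : ∃ w, y = P *ᵥ w :=
        ⟨P⁻¹ *ᵥ y, by rw [mulVec_mulVec, Matrix.mul_nonsing_inv _ hPu, one_mulVec]⟩
      rw [mulVec_mulVec, hcomm, Matrix.mul_assoc, Matrix.nonsing_inv_mul _ hPu, Matrix.mul_one, hPdef]
      simp only [smul_mulVec, add_mulVec, one_mulVec, polar_add_left, polar_add_right, polar_smul_left,
        polar_smul_right, smul_eq_mul, hz]
      ring
    have h2' : ∀ x y, polar Q (P *ᵥ x) (dualInv Q M *ᵥ y) = polar Q x y := fun x y => polar_dualInv hQ M x y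
    have h3 : Pᵀ * polarMat Q * dualInv Q M = Pᵀ * polarMat Q * (P⁻¹ * Z) :=
      matrix_eq_of_dot fun x y => by rw [← polar_mulVec, ← polar_mulVec, h1, h2']
    have hu : IsUnit (Pᵀ * polarMat Q) := by
      rw [Matrix.isUnit_iff_isUnit_det, det_mul, det_transpose]
      exact hPu.mul (Ne.isUnit (polarMat_det hQ))
    exact hu.mul_left_cancel h3
  have hdec : dblHom Q h2 z = lowerU S hS * levi hQ M * upperU S hS := by
    refine Subtype.ext (Units.ext ?_)
    show fromBlocks P R R P = fromBlocks 1 0 S 1 * fromBlocks P 0 0 (dualInv Q M) * fromBlocks 1 S 0 1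
    rw [fromBlocks_multiply, fromBlocks_multiply, hN]
    simp only [Matrix.one_mul, Matrix.mul_one, Matrix.zero_mul, Matrix.mul_zero, add_zero, zero_add]
    have hPS : P * S = R := by rw [← Matrix.mul_assoc, Matrix.mul_nonsing_inv _ hPu, Matrix.one_mul]
    have hSP : S * P = R := by rw [← hR', Matrix.mul_assoc, Matrix.nonsing_inv_mul _ hPu, Matrix.mul_one]
    congr 1
    · exact hPS.symm
    · exact hSP.symm
    · have hsq : R * R + Z = P * P := by
        rw [hPdef, hRdef]
        simp only [Matrix.smul_mul, Matrix.mul_smul, smul_smul, add_mul, mul_add, sub_mul, mul_sub,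
          Matrix.one_mul, Matrix.mul_one]
        match_scalars <;> field_simp <;> ring
      rw [hSP]
      calc P = P⁻¹ * (P * P) := by rw [← Matrix.mul_assoc, Matrix.nonsing_inv_mul _ hPu, Matrix.one_mul]
        _ = P⁻¹ * (R * R) + P⁻¹ * Z := by rw [← hsq, Matrix.mul_add]
        _ = R * S + P⁻¹ * Z := by
          rw [← Matrix.mul_assoc, show P⁻¹ * R = R * P⁻¹ from hR'.symm, Matrix.mul_assoc]
  have := congrArg (Orth.spinor (hypForm Q)) hdec
  rw [map_mul, map_mul, spinor_dblHom hQ h2 hn, spinor_lowerU h2, spinor_upperU h2, one_mul, mul_one,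
    spinor_levi hQ h2 hn] at this
  rw [this]
  exact congrArg sqsgn (Units.ext rfl)

end Hyp

end Cfsg.Agent.Lib.POmegaSemi
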