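import Mathlib
import Cfsg.Agent.Lib.POmegaSemi.Zassenhaus
import Cfsg.Agent.Lib.FormConj.Twist
import Cfsg.Agent.Lib.FormConj.JordanForms
import Cfsg.Agent.Lib.Forms.Witt

/-!
A similitude with prescribed multiplier commuting with an isometry of odd order.
-/

set_option autoImplicit false
set_option linter.unusedSectionVars false

namespace Cfsg.Agent.Lib.POmegaSemi

open QuadraticMap Matrix

universe u

variable {F : Type u} [Field F] [Fintype F] {ι : Type} [Fintype ι] [DecidableEq ι]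

/-- A similitude of an alternating form of rank `2 n` has determinant `μ ^ n`. -/
theorem det_alt_similitude (h2 : (2 : F) ≠ 0) {n : ℕ} (hn : Fintype.card ι = 2 * n) (S : Matrix ι ι F)
    (hS : Sᵀ = -S) (hSd : S.det ≠ 0) (c : Matrix ι ι F) {μ : F} (hμ : μ ≠ 0)
    (hc : cᵀ * S * c = μ • S) : c.det = μ ^ n := by
  classical
  obtain ⟨e⟩ : Nonempty (ι ≃ Fin n ⊕ Fin n) := ⟨Fintype.equivOfCardEq (by simp [hn, two_mul])⟩
  set J := Matrix.J (Fin n) F
  set J' : Matrix ι ι F := J.submatrix e e with hJ'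
  have hJt : J'ᵀ = -J' := by
    rw [hJ', transpose_submatrix, Matrix.J_transpose, submatrix_neg]; rfl
  have hJd : J'.det ≠ 0 := by
    rw [hJ', det_submatrix_equiv_self]; exact (Matrix.isUnit_det_J (Fin n) F).ne_zero
  obtain ⟨P, hP, hPS⟩ := FormConj.JordanForms.exists_congr_alt h2 S J' hS hJt hSd hJd
  have hPd : IsUnit P.det := (Matrix.isUnit_iff_isUnit_det _).1 hP
  set c' := P⁻¹ * c * P with hc'
  have h1 : c'ᵀ * J' * c' = μ • J' := by
    have hPc : P * c' = c * P := by
      rw [hc', ← Matrix.mul_assoc, ← Matrix.mul_assoc, Matrix.mul_nonsing_inv _ hPd, Matrix.one_mul]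
    calc c'ᵀ * J' * c' = (c'ᵀ * Pᵀ) * S * (P * c') := by
          rw [← hPS]; simp only [Matrix.mul_assoc]
      _ = (P * c')ᵀ * S * (P * c') := by rw [transpose_mul P c']
      _ = Pᵀ * (cᵀ * S * c) * P := by rw [hPc, transpose_mul]; simp only [Matrix.mul_assoc]
      _ = μ • J' := by rw [hc, Matrix.mul_smul, Matrix.smul_mul, hPS]
  set d := c'.submatrix e.symm e.symm with hd
  have h2' : dᵀ * J * d = μ • J := by
    have hJ : J = J'.submatrix e.symm e.symm := by ext a b; simp [hJ']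
    rw [hJ, hd, transpose_submatrix, submatrix_mul_equiv, submatrix_mul_equiv, h1]
    rfl
  set D : Matrix (Fin n ⊕ Fin n) (Fin n ⊕ Fin n) F := fromBlocks (μ⁻¹ • 1) 0 0 1 with hD
  have hmem : d * D ∈ symplecticGroup (Fin n) F := by
    rw [SymplecticGroup.mem_iff', transpose_mul]
    calc Dᵀ * dᵀ * J * (d * D) = Dᵀ * (dᵀ * J * d) * D := by simp only [Matrix.mul_assoc]
      _ = J := by
        rw [h2', hD, fromBlocks_transpose, Matrix.mul_smul, Matrix.smul_mul]
        simp only [J, Matrix.J, fromBlocks_multiply, transpose_smul, transpose_one, transpose_zero,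
          Matrix.zero_mul, Matrix.mul_zero, add_zero, zero_add, Matrix.mul_one, Matrix.one_mul,
          Matrix.smul_mul, Matrix.mul_smul, fromBlocks_smul, smul_smul, smul_zero, smul_neg,
          mul_inv_cancel₀ hμ, one_smul, mul_neg, neg_smul, neg_zero]
  have h3 := SymplecticGroup.det_eq_one hmem
  rw [det_mul, hD, det_fromBlocks_zero₁₂, det_smul, det_one, mul_one, mul_one, Fintype.card_fin,
    inv_pow] at h3
  have hdc : d.det = c.det := by
    rw [hd, det_submatrix_equiv_self, hc', det_mul, det_mul, det_nonsing_inv, mul_comm (Ring.inverse _),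
      mul_assoc, Ring.inverse_mul_cancel _ hPd, mul_one]
  rw [← hdc]
  exact (mul_inv_eq_one₀ (pow_ne_zero _ hμ)).1 h3

variable {Q : QuadraticForm F (ι → F)}

/-- The adjoint for the polar form. -/
noncomputable def adj (Q : QuadraticForm F (ι → F)) (X : Matrix ι ι F) : Matrix ι ι F :=
  (polarMat Q)⁻¹ * Xᵀ * polarMat Q

section Adj

variable (hQ : (QuadraticMap.polarBilin Q).Nondegenerate)
include hQ

theorem polar_adj (X : Matrix ι ι F) (v w : ι → F) : polar Q (X *ᵥ v) w = polar Q v (adj Q X *ᵥ w) := by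
  rw [polar_eq_dot, polar_eq_dot, mulVec_mulVec, adj, ← Matrix.mul_assoc, ← Matrix.mul_assoc,
    Matrix.mul_nonsing_inv _ (Ne.isUnit (polarMat_det hQ)), Matrix.one_mul, ← mulVec_mulVec,
    dotProduct_mulVec v Xᵀ, vecMul_transpose]

theorem adj_unique {X Y : Matrix ι ι F} (h : ∀ v w, polar Q (X *ᵥ v) w = polar Q v (Y *ᵥ w)) : adj Q X = Y := by
  refine Matrix.ext_iff_mulVec.mpr fun w => sub_eq_zero.1 (hQ.2 _ fun v => ?_)
  show polar Q v _ = 0
  rw [sub_eq_add_neg, polar_add_right, polar_neg_right, ← polar_adj hQ, h, add_neg_cancel]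

theorem adj_antiHom : FormConj.IsAntiHom (adj Q) where
  map_add X Y := adj_unique hQ fun v w => by
    rw [add_mulVec, add_mulVec, polar_add_left, polar_add_right, polar_adj hQ, polar_adj hQ]
  map_mul X Y := adj_unique hQ fun v w => by
    rw [← mulVec_mulVec, ← mulVec_mulVec, polar_adj hQ, polar_adj hQ]
  map_one := adj_unique hQ fun v w => by rw [one_mulVec, one_mulVec]

theorem adj_adj (X : Matrix ι ι F) : adj Q (adj Q X) = X :=
  adj_unique hQ fun v w => by rw [polar_comm, ← polar_adj hQ, polar_comm]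

theorem adj_scalar (c : F) : adj Q (c • (1 : Matrix ι ι F)) = c • 1 :=
  adj_unique hQ fun v w => by
    rw [smul_mulVec, one_mulVec, smul_mulVec, one_mulVec, polar_smul_left, polar_smul_right]

theorem adj_smul (c : F) (X : Matrix ι ι F) : adj Q (c • X) = c • adj Q X :=
  adj_unique hQ fun v w => by
    rw [smul_mulVec, smul_mulVec, polar_smul_left, polar_smul_right, polar_adj hQ]

theorem adj_sum {κ : Type*} (s : Finset κ) (f : κ → Matrix ι ι F) :
    adj Q (∑ i ∈ s, f i) = ∑ i ∈ s, adj Q (f i) := by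
  classical
  induction s using Finset.induction with
  | empty => simp [(adj_antiHom hQ).map_zero]
  | insert a s ha ih => rw [Finset.sum_insert ha, Finset.sum_insert ha, (adj_antiHom hQ).map_add, ih]

theorem adj_isometry (z : ↥(Cfsg.isometryGroup F ⇑Q)) :
    adj Q ((z : GL ι F) : Matrix ι ι F) = (((z : GL ι F)⁻¹ : GL ι F) : Matrix ι ι F) :=
  adj_unique hQ fun v w => by
    conv_rhs => rw [← Orth.polar_app z]
    show polar Q _ w = polar Q _ ((((z : GL ι F)) : Matrix ι ι F) *ᵥ _)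
    rw [mulVec_mulVec, Units.mul_inv, one_mulVec]
    rfl

end Adj

/-- The data of an element of odd order: its moved and fixed projections. -/
structure Split (Q : QuadraticForm F (ι → F)) (A A' e : Matrix ι ι F) (G : Set (Matrix ι ι F)) : Prop where
  twist : FormConj.IsTwistSet (adj Q) G
  memA : A ∈ Subring.closure G
  memA' : A' ∈ Subring.closure G
  mem : e ∈ Subring.closure G
  idem : e * e = e
  self : adj Q e = e
  fixed : ∀ v, e *ᵥ v = 0 → A *ᵥ v = v
  inv : ∃ w ∈ Subring.closure G, (A - A') * w * e = e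

theorem exists_split (h2 : (2 : F) ≠ 0) (hQ : (QuadraticMap.polarBilin Q).Nondegenerate)
    (a : ↥(Cfsg.isometryGroup F ⇑Q)) {r : ℕ} (hro : Odd r) (hr : (r : F) ≠ 0) (har : a ^ r = 1) (lam : F) :
    ∃ e G, Split Q ((a : GL ι F) : Matrix ι ι F) (((a : GL ι F)⁻¹ : GL ι F) : Matrix ι ι F) e G ∧
      lam • (1 : Matrix ι ι F) ∈ Subring.closure G := by
  set A := ((a : GL ι F) : Matrix ι ι F) with hA
  set A' := (((a : GL ι F)⁻¹ : GL ι F) : Matrix ι ι F) with hA'
  have hAA' : A * A' = 1 := Units.mul_inv _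
  have hA'A : A' * A = 1 := Units.inv_mul _
  have hAr : A ^ r = 1 := by
    rw [hA, ← Units.val_pow_eq_pow_val, ← SubgroupClass.coe_pow, har]; rfl
  have hadjA : adj Q A = A' := adj_isometry hQ a
  have hadjA' : adj Q A' = A := by rw [← hadjA, adj_adj hQ]
  set B := A * A with hB
  set P := (r : F)⁻¹ • ∑ i ∈ Finset.range r, B ^ i with hP
  have hBr : B ^ r = 1 := by rw [hB, (Commute.refl A).mul_pow, hAr, Matrix.one_mul]
  have hBP : B * P = P := by
    rw [hP, Matrix.mul_smul, Finset.mul_sum]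
    congr 1
    have h1 := Finset.sum_range_succ' (fun i => B ^ i) r
    rw [Finset.sum_range_succ, hBr, pow_zero] at h1
    exact (Finset.sum_congr rfl fun i _ => (pow_succ' B i).symm).trans (add_right_cancel h1).symm
  have hBiP : ∀ i, B ^ i * P = P := by
    intro i
    induction i with
    | zero => rw [pow_zero, Matrix.one_mul]
    | succ i ih => rw [pow_succ', Matrix.mul_assoc, ih, hBP]
  have hPP : P * P = P := by
    nth_rewrite 1 [hP]
    rw [Matrix.smul_mul, Finset.sum_mul, Finset.sum_congr rfl fun i _ => hBiP i, Finset.sum_const,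
      Finset.card_range, ← Nat.cast_smul_eq_nsmul F, inv_smul_smul₀ hr]
  have hAP : A * P = P := by
    obtain ⟨k, hk⟩ := hro
    have : A = B ^ (k + 1) := by
      rw [hB, ← pow_two, ← pow_mul, show 2 * (k + 1) = r + 1 by omega, pow_succ, hAr, Matrix.one_mul]
    rw [this, hBiP]
  have hA'P : A' * P = P := by
    conv_lhs => rw [← hAP]
    rw [← Matrix.mul_assoc, hA'A, Matrix.one_mul]
  have hPadj : adj Q P = P := by
    have h1 : adj Q P * P = P := by
      nth_rewrite 1 [hP]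
      rw [adj_smul hQ, adj_sum hQ, Matrix.smul_mul, Finset.sum_mul]
      have h : ∀ i, adj Q (B ^ i) * P = P := by
        intro i
        rw [(adj_antiHom hQ).map_pow, hB, (adj_antiHom hQ).map_mul, hadjA]
        induction i with
        | zero => rw [pow_zero, Matrix.one_mul]
        | succ i ih => rw [pow_succ, Matrix.mul_assoc, Matrix.mul_assoc, hA'P, hA'P, ih]
      rw [Finset.sum_congr rfl fun i _ => h i, Finset.sum_const, Finset.card_range,
        ← Nat.cast_smul_eq_nsmul F, inv_smul_smul₀ hr]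
    have h2' := congrArg (adj Q) h1
    rw [(adj_antiHom hQ).map_mul, adj_adj hQ, h1] at h2'
    exact h2'.symm
  let G : Set (Matrix ι ι F) := {A, A', lam • 1, (r : F)⁻¹ • 1}
  have hG : FormConj.IsTwistSet (adj Q) G := by
    refine ⟨adj_antiHom hQ, ?_, ?_, fun x _ => adj_adj hQ x⟩
    · have hs : ∀ (c : F) (x : Matrix ι ι F), Commute (c • (1 : Matrix ι ι F)) x := fun c x => by
        show c • (1 : Matrix ι ι F) * x = x * c • 1
        rw [Matrix.smul_mul, Matrix.one_mul, Matrix.mul_smul, Matrix.mul_one]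
      have hc : Commute A A' := hAA'.trans hA'A.symm
      intro x hx y hy
      simp only [G, Set.mem_insert_iff, Set.mem_singleton_iff] at hx hy
      rcases hx with rfl | rfl | rfl | rfl <;> rcases hy with rfl | rfl | rfl | rfl <;>
        first
          | exact Commute.refl _
          | exact hs _ _
          | exact (hs _ _).symm
          | exact hc
          | exact hc.symm
    · intro x hx
      simp only [G, Set.mem_insert_iff, Set.mem_singleton_iff] at hx
      rcases hx with rfl | rfl | rfl | rfl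
      · rw [hadjA]; exact Subring.subset_closure (by simp [G])
      · rw [hadjA']; exact Subring.subset_closure (by simp [G])
      · rw [adj_scalar hQ]; exact Subring.subset_closure (by simp [G])
      · rw [adj_scalar hQ]; exact Subring.subset_closure (by simp [G])
  have mA : A ∈ Subring.closure G := Subring.subset_closure (by simp [G])
  have mB : B ∈ Subring.closure G := mul_mem mA mA
  have msm : ∀ x ∈ Subring.closure G, (r : F)⁻¹ • x ∈ Subring.closure G := fun x hx => by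
    have := mul_mem (Subring.subset_closure (s := G) (show (r : F)⁻¹ • (1 : Matrix ι ι F) ∈ G by simp [G])) hx
    rwa [Matrix.smul_mul, Matrix.one_mul] at this
  have mP : P ∈ Subring.closure G := msm _ (sum_mem fun i _ => pow_mem mB i)
  refine ⟨1 - P, G, ⟨hG, mA, Subring.subset_closure (by simp [G]), sub_mem (one_mem _) mP, ?_, ?_, ?_, ?_⟩,
    Subring.subset_closure (by simp [G])⟩
  · rw [sub_mul, mul_sub, mul_sub, hPP]; simp only [Matrix.one_mul, Matrix.mul_one]; abel
  · rw [(adj_antiHom hQ).map_sub, (adj_antiHom hQ).map_one, hPadj]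
  · intro v hv
    rw [sub_mulVec, one_mulVec, sub_eq_zero] at hv
    rw [hv, mulVec_mulVec, hAP]
  · refine ⟨A * -((r : F)⁻¹ • ∑ i ∈ Finset.range r, ∑ j ∈ Finset.range i, B ^ j), mul_mem mA
      (neg_mem (msm _ (sum_mem fun i _ => sum_mem fun j _ => pow_mem mB j))), ?_⟩
    have hkey : (A - A') * (A * -((r : F)⁻¹ • ∑ i ∈ Finset.range r, ∑ j ∈ Finset.range i, B ^ j)) = 1 - P := by
      rw [← Matrix.mul_assoc, sub_mul, hA'A, ← hB, mul_neg, Matrix.mul_smul, Finset.mul_sum,
        Finset.sum_congr rfl fun i _ => mul_geom_sum B i, Finset.sum_sub_distrib, smul_sub, ← hP,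
        Finset.sum_const, Finset.card_range, ← Nat.cast_smul_eq_nsmul F, inv_smul_smul₀ hr]
      abel
    rw [hkey, sub_mul, mul_sub, mul_sub, hPP]; simp only [Matrix.one_mul, Matrix.mul_one]
    abel

/-- A similitude with multiplier `lam` centralising `a`. -/
theorem exists_similitude_comm (h2 : (2 : F) ≠ 0) (hQ : (QuadraticMap.polarBilin Q).Nondegenerate)
    (a : ↥(Cfsg.isometryGroup F ⇑Q)) {r : ℕ} (hro : Odd r) (hr : (r : F) ≠ 0) (har : a ^ r = 1)
    (g0 : GL ι F) (lam : Fˣ) (hg0 : ∀ v, Q ((g0 : Matrix ι ι F) *ᵥ v) = (lam : F) * Q v) :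
    ∃ k : GL ι F, (∀ v, Q ((k : Matrix ι ι F) *ᵥ v) = (lam : F) * Q v) ∧ Commute k (a : GL ι F) := by
  set A := ((a : GL ι F) : Matrix ι ι F) with hA
  obtain ⟨e, G, hS, hlam⟩ := exists_split h2 hQ a hro hr har (lam : F)
  obtain ⟨w, hw, hwe⟩ := hS.inv
  have hlu : IsUnit ((lam : F) • (1 : Matrix ι ι F)) := by
    refine IsUnit.of_mul_eq_one (((lam⁻¹ : Fˣ) : F) • 1) ?_
    rw [Matrix.smul_mul, Matrix.one_mul, smul_smul, ← Units.val_mul, mul_inv_cancel, Units.val_one, one_smul]
  obtain ⟨c, hc, hcu, hce⟩ := hS.twist.exists_norm_eq_idem hS.mem hS.memA hw hlam hS.idem hS.self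
    (by rw [adj_isometry hQ a]; exact hwe) hlu (adj_scalar hQ _)
  have hcA : c * A = A * c := (hS.twist.commute hc hS.memA).eq
  have hceq : c * e = e * c := (hS.twist.commute hc hS.mem).eq
  have heA : e * A = A * e := (hS.twist.commute hS.mem hS.memA).eq
  have hadjc : adj Q c * c * e = (lam : F) • e := by
    rw [(hS.twist.commute (hS.twist.anti.mem_closure hS.twist.mem hc) hc).eq, hce, Matrix.smul_mul, Matrix.one_mul]
  have hpol : ∀ x y, polar Q (c *ᵥ (e *ᵥ x)) (c *ᵥ (e *ᵥ y)) = (lam : F) * polar Q x (e *ᵥ y) := by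
    intro x y
    rw [mulVec_mulVec, mulVec_mulVec, polar_adj hQ, mulVec_mulVec, (adj_antiHom hQ).map_mul, hS.self,
      show e * adj Q c * (c * e) = e * (adj Q c * c * e) by simp only [Matrix.mul_assoc], hadjc,
      Matrix.mul_smul, hS.idem, smul_mulVec, polar_smul_right, smul_eq_mul]
  set X := LinearMap.range e.mulVecLin
  set g0' := (((g0⁻¹ : GL ι F)) : Matrix ι ι F)
  have hg0' : ∀ v, Q (g0' *ᵥ v) = (lam : F)⁻¹ * Q v := fun v => by
    have h := hg0 (g0' *ᵥ v)
    rw [mulVec_mulVec, Units.mul_inv, one_mulVec] at h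
    rw [h, inv_mul_cancel_left₀ lam.ne_zero]
  obtain ⟨h, hh, hhX⟩ := Forms.witt_quad hQ ((g0' * c).mulVecLin ∘ₗ X.subtype)
    ((Matrix.mulVec_injective_iff_isUnit.2 ((g0⁻¹).isUnit.mul hcu)).comp X.injective_subtype) (by
      rintro ⟨_, y, rfl⟩
      show Q ((g0' * c) *ᵥ (e *ᵥ y)) = Q (e *ᵥ y)
      have h2' : (2 : F) * Q (c *ᵥ (e *ᵥ y)) = (lam : F) * (2 * Q (e *ᵥ y)) := by
        have h := hpol y y
        rw [polar_self, two_smul] at h
        have h' : polar Q y (e *ᵥ y) = polar Q (e *ᵥ y) (e *ᵥ y) := by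
          rw [polar_adj hQ e, hS.self, mulVec_mulVec, hS.idem]
        rw [h', polar_self, two_smul] at h
        linear_combination h
      rw [← mulVec_mulVec, hg0', mul_left_cancel₀ h2 (h2'.trans (mul_left_comm _ _ _))]
      rw [inv_mul_cancel_left₀ lam.ne_zero])
  set H := LinearMap.toMatrix' h.toLinearMap
  have hH : ∀ v, H *ᵥ v = h v := fun v => by
    rw [← Matrix.toLin'_apply, Matrix.toLin'_toMatrix']; rfl
  have hHu : IsUnit H := by
    refine IsUnit.of_mul_eq_one (LinearMap.toMatrix' h.symm.toLinearMap) ?_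
    rw [← LinearMap.toMatrix'_mul, ← LinearMap.toMatrix'_one]
    congr 1
    ext v
    simp
  set k : GL ι F := g0 * hHu.unit
  have hk : ∀ v, (k : Matrix ι ι F) *ᵥ v = (g0 : Matrix ι ι F) *ᵥ h v := fun v => by
    rw [Units.val_mul, IsUnit.unit_spec, ← mulVec_mulVec, hH]
  refine ⟨k, fun v => by rw [hk, hg0, hh], Units.ext (Matrix.ext_iff_mulVec.mpr fun v => ?_)⟩
  show ((k : Matrix ι ι F) * A) *ᵥ v = (A * (k : Matrix ι ι F)) *ᵥ v
  rw [← mulVec_mulVec, ← mulVec_mulVec]
  -- on the moved part `k` is `c`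
  have hkX : ∀ y, (k : Matrix ι ι F) *ᵥ (e *ᵥ y) = c *ᵥ (e *ᵥ y) := fun y => by
    rw [hk, show h (e *ᵥ y) = (g0' * c) *ᵥ (e *ᵥ y) from hhX ⟨_, y, rfl⟩, mulVec_mulVec, ← Matrix.mul_assoc,
      Units.mul_inv, Matrix.one_mul]
  have hkpol : ∀ x y, polar Q ((k : Matrix ι ι F) *ᵥ x) ((k : Matrix ι ι F) *ᵥ y) = (lam : F) * polar Q x y := by
    intro x y
    rw [hk, hk, polar, polar, ← mulVec_add, hg0, hg0, hg0, ← map_add, hh, hh, hh]
    ring
  obtain ⟨f, y, rfl, hf⟩ : ∃ f y, v = f + e *ᵥ y ∧ e *ᵥ f = 0 :=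
    ⟨v - e *ᵥ v, v, (sub_add_cancel _ _).symm, by rw [mulVec_sub, mulVec_mulVec, hS.idem, sub_self]⟩
  have hfk : e *ᵥ ((k : Matrix ι ι F) *ᵥ f) = 0 := by
    refine hQ.1 _ fun z => ?_
    show polar Q _ z = 0
    obtain ⟨z', hz'⟩ := (Matrix.mulVec_surjective_iff_isUnit.2 hcu) z
    subst hz'
    rw [polar_adj hQ, hS.self, show e *ᵥ (c *ᵥ z') = c *ᵥ (e *ᵥ z') by rw [mulVec_mulVec, mulVec_mulVec, hceq],
      ← hkX, hkpol, ← hS.self, ← polar_adj hQ, hf, polar_zero_left, mul_zero]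
  have e1 : (k : Matrix ι ι F) *ᵥ (A *ᵥ f) = A *ᵥ ((k : Matrix ι ι F) *ᵥ f) := by
    rw [hS.fixed f hf, hS.fixed _ hfk]
  have e2 : (k : Matrix ι ι F) *ᵥ (A *ᵥ (e *ᵥ y)) = A *ᵥ ((k : Matrix ι ι F) *ᵥ (e *ᵥ y)) := by
    have h1 : A *ᵥ (e *ᵥ y) = e *ᵥ (A *ᵥ y) := by rw [mulVec_mulVec, mulVec_mulVec, heA]
    rw [hkX, h1, hkX, ← h1, mulVec_mulVec _ c A, hcA, ← mulVec_mulVec]
  rw [mulVec_add, mulVec_add, mulVec_add, mulVec_add, e1, e2]

/-- A fixed anisotropic vector, or `A - A⁻¹` is invertible. -/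
theorem exists_fixed_or_isUnit (h2 : (2 : F) ≠ 0) (hQ : (QuadraticMap.polarBilin Q).Nondegenerate)
    (a : ↥(Cfsg.isometryGroup F ⇑Q)) {r : ℕ} (hro : Odd r) (hr : (r : F) ≠ 0) (har : a ^ r = 1) :
    (∃ v, Orth.app a v = v ∧ Q v ≠ 0) ∨
      IsUnit (((a : GL ι F) : Matrix ι ι F) - (((a : GL ι F)⁻¹ : GL ι F) : Matrix ι ι F)) := by
  obtain ⟨e, G, hS, -⟩ := exists_split h2 hQ a hro hr har 1
  by_cases he : e = 1
  · obtain ⟨w, -, hwe⟩ := hS.inv
    rw [he, Matrix.mul_one] at hwe
    exact Or.inr (IsUnit.of_mul_eq_one w hwe)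
  · left
    set P := 1 - e with hP
    have hfix : ∀ y, Orth.app a (P *ᵥ y) = P *ᵥ y := fun y => hS.fixed _ (by
      rw [mulVec_mulVec, hP, mul_sub, Matrix.mul_one, hS.idem, sub_self, zero_mulVec])
    obtain ⟨y, hy⟩ : ∃ y, P *ᵥ y ≠ 0 := by
      by_contra h
      push Not at h
      exact he (sub_eq_zero.1 (Matrix.ext_iff_mulVec.mpr fun y => (h y).trans (zero_mulVec y).symm)).symm
    by_cases h1 : Q (P *ᵥ y) = 0
    swap
    · exact ⟨_, hfix y, h1⟩
    obtain ⟨z, hz⟩ : ∃ z, polar Q (P *ᵥ y) z ≠ 0 := by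
      by_contra h
      push Not at h
      exact hy (hQ.1 _ h)
    have hPz : polar Q (P *ᵥ y) (P *ᵥ z) ≠ 0 := by
      have hPad : adj Q P = P := by rw [hP, (adj_antiHom hQ).map_sub, (adj_antiHom hQ).map_one, hS.self]
      have h' : polar Q (P *ᵥ y) (P *ᵥ z) = polar Q (P *ᵥ (P *ᵥ y)) z := by
        rw [polar_adj hQ P (P *ᵥ y), hPad]
      rw [h', mulVec_mulVec]
      rwa [show P * P = P by
        rw [hP, sub_mul, mul_sub, mul_sub, hS.idem]; simp only [Matrix.one_mul, Matrix.mul_one]; abel]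
    by_cases h3 : Q (P *ᵥ z) = 0
    swap
    · exact ⟨_, hfix z, h3⟩
    exact ⟨P *ᵥ (y + z), hfix _, by
      rw [mulVec_add, QuadraticMap.map_add (⇑Q), h1, h3, zero_add, zero_add]; exact hPz⟩

/-- A similitude commuting with a fixed point free isometry has determinant `μ ^ n`. -/
theorem det_comm_similitude (h2 : (2 : F) ≠ 0) (hQ : (QuadraticMap.polarBilin Q).Nondegenerate) {n : ℕ}
    (hn : Fintype.card ι = 2 * n) (a : ↥(Cfsg.isometryGroup F ⇑Q))
    (hu : IsUnit (((a : GL ι F) : Matrix ι ι F) - (((a : GL ι F)⁻¹ : GL ι F) : Matrix ι ι F)))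
    (k : GL ι F) (lam : Fˣ) (hk : ∀ v, Q ((k : Matrix ι ι F) *ᵥ v) = (lam : F) * Q v)
    (hka : Commute k (a : GL ι F)) : (k : Matrix ι ι F).det = (lam : F) ^ n := by
  set A := ((a : GL ι F) : Matrix ι ι F)
  set A' := (((a : GL ι F)⁻¹ : GL ι F) : Matrix ι ι F)
  set B := polarMat Q
  have hBu : IsUnit B.det := Ne.isUnit (polarMat_det hQ)
  have h1 : B * A' = Aᵀ * B := by
    rw [show A' = adj Q A from (adj_isometry hQ a).symm, adj, ← Matrix.mul_assoc, ← Matrix.mul_assoc,
      Matrix.mul_nonsing_inv _ hBu, Matrix.one_mul]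
  have h1' : B * A = A'ᵀ * B := by
    rw [show A = adj Q A' from by rw [show A' = adj Q A from (adj_isometry hQ a).symm, adj_adj hQ], adj,
      ← Matrix.mul_assoc, ← Matrix.mul_assoc, Matrix.mul_nonsing_inv _ hBu, Matrix.one_mul]
  have hkB : (k : Matrix ι ι F)ᵀ * B * k = (lam : F) • B := matrix_eq_of_dot fun v w => by
    rw [← polar_mulVec, smul_mulVec, dotProduct_smul, ← polar_eq_dot, polar, polar, ← mulVec_add, hk, hk, hk,
      smul_eq_mul]
    ring
  have hkd : A * (k : Matrix ι ι F) = k * A := (congrArg Units.val hka.eq).symm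
  have hkd' : A' * (k : Matrix ι ι F) = k * A' := (congrArg Units.val (hka.inv_right).eq).symm
  refine det_alt_similitude h2 hn (B * (A - A')) ?_ ?_ _ lam.ne_zero ?_
  · rw [transpose_mul, transpose_sub, polarMat_transpose, sub_mul, ← h1, ← h1', mul_sub]; abel
  · rw [det_mul]
    exact mul_ne_zero (polarMat_det hQ) ((Matrix.isUnit_iff_isUnit_det _).1 hu).ne_zero
  · calc (k : Matrix ι ι F)ᵀ * (B * (A - A')) * k = (k : Matrix ι ι F)ᵀ * B * ((A - A') * k) := by
          simp only [Matrix.mul_assoc]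
      _ = (k : Matrix ι ι F)ᵀ * B * k * (A - A') := by
          rw [sub_mul, hkd, hkd', ← mul_sub]; simp only [Matrix.mul_assoc]
      _ = _ := by rw [hkB, Matrix.smul_mul]

end Cfsg.Agent.Lib.POmegaSemi
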