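import Mathlib
import Cfsg.Agent.Lib.POmegaSemi.Similitude

/-!
A proper isometry of spinor sign `-1` centralising a non-trivial isometry of odd order.
-/

set_option autoImplicit false
set_option linter.unusedSectionVars false

namespace Cfsg.Agent.Lib.POmegaSemi

open QuadraticMap Matrix Polynomial

universe u

section FieldFacts

variable {K : Type*} [Field K] [Fintype K]

theorem ringChar_ne_two_of (h2 : (2 : K) ≠ 0) : ringChar K ≠ 2 := fun h => h2 (by
  have h' : ((2 : ℕ) : K) = 0 := (ringChar.spec K 2).2 (by rw [h])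
  simpa using h')

theorem exists_sum_two (h2 : (2 : K) ≠ 0) {x y : K} (hx : x ≠ 0) (hy : y ≠ 0) :
    ∃ a b : K, x * a ^ 2 + y * b ^ 2 = 1 := by
  obtain ⟨a, b, h⟩ := FiniteField.exists_root_sum_quadratic (f := C x * X ^ 2 - C 1) (g := C y * X ^ 2)
    (by rw [degree_sub_eq_left_of_degree_lt] <;> simp [hx])
    (by simp [hy]) (FiniteField.odd_card_of_char_ne_two (ringChar_ne_two_of h2))
  refine ⟨a, b, ?_⟩
  simp only [eval_sub, eval_mul, eval_C, eval_pow, eval_X] at h
  linear_combination h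

/-- `1 - d w²` takes a non-square value when `d + 4` is a non-zero square. -/
theorem exists_one_sub_nonsquare (h2 : (2 : K) ≠ 0) {d s : K} (hd : d ≠ 0) (hs : s ≠ 0) (hsd : d + 4 = s ^ 2) :
    ∃ w : K, ¬ IsSquare (1 - d * w ^ 2) := by
  obtain ⟨c, hc⟩ := FiniteField.exists_nonsquare (ringChar_ne_two_of h2)
  have hc0 : c ≠ 0 := fun h => hc (h ▸ IsSquare.zero)
  by_contra h
  push Not at h
  by_cases hds : IsSquare d
  · obtain ⟨e, he⟩ := hds
    have he0 : e ≠ 0 := fun h0 => hd (by rw [he, h0, mul_zero])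
    have h4 : (4 : K) ≠ 0 := by
      rw [show (4 : K) = 2 * 2 by norm_num]; exact mul_ne_zero h2 h2
    obtain ⟨i, hi⟩ : IsSquare (-1 : K) := by
      obtain ⟨t, ht⟩ := h (s / (2 * e))
      have h5 : 4 * (t * t) = -(e * e) := by
        rw [← ht, he]
        field_simp
        rw [he] at hsd
        linear_combination 4 * hsd
      refine ⟨t * 2 / e, ?_⟩
      field_simp
      linear_combination -h5
    have hsum : ∀ a b : K, IsSquare (a * a + b * b) := by
      intro a b
      by_cases ha : a = 0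
      · exact ⟨b, by rw [ha, mul_zero, zero_add]⟩
      obtain ⟨t, ht⟩ := h (i * b / (a * e))
      refine ⟨a * t, ?_⟩
      rw [mul_mul_mul_comm a t a t, ← ht, he]
      field_simp
      linear_combination -(b ^ 2) * hi
    obtain ⟨a, b, hab⟩ := exists_sum_two h2 (inv_ne_zero hc0) (inv_ne_zero hc0)
    refine hc ?_
    have h1 : c = a * a + b * b := by
      field_simp at hab
      linear_combination -hab
    exact h1 ▸ hsum a b
  · obtain ⟨a, b, hab⟩ := exists_sum_two h2 hc0 hd
    by_cases ha : a = 0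
    · rw [ha] at hab
      have hb : b ≠ 0 := fun hb => by rw [hb] at hab; simp at hab
      exact hds ⟨b⁻¹, by field_simp; linear_combination hab⟩
    · obtain ⟨t, ht⟩ := h b
      refine hc ⟨t / a, ?_⟩
      field_simp
      linear_combination hab + ht

/-- The norm of a non-square is a non-square. -/
theorem not_isSquare_norm {F : Type*} [Field F] [Fintype F] [Algebra F K] (h2 : (2 : F) ≠ 0) {c : K}
    (hc : ¬ IsSquare c) : ¬ IsSquare (Algebra.norm F c) := by
  intro hN
  obtain ⟨n, hn⟩ := FiniteField.exists_nonsquare (ringChar_ne_two_of h2)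
  obtain ⟨z, hz⟩ := FiniteField.norm_surjective F K n
  have hz0 : z ≠ 0 := fun h => hn (by rw [← hz, h, Algebra.norm_zero]; exact IsSquare.zero)
  have hc0 : c ≠ 0 := fun h => hc (h ▸ IsSquare.zero)
  refine hn (hz ▸ ?_)
  by_cases hzs : IsSquare z
  · exact hzs.map (Algebra.norm F)
  · have hK : (2 : K) ≠ 0 := by
      rw [← map_ofNat (algebraMap F K) 2]; exact (_root_.map_ne_zero _).2 h2
    classical
    have hmul : IsSquare (z * c) := by
      rw [← quadraticChar_one_iff_isSquare (mul_ne_zero hz0 hc0), map_mul,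
        quadraticChar_neg_one_iff_not_isSquare.2 hzs, quadraticChar_neg_one_iff_not_isSquare.2 hc]
      norm_num
    obtain ⟨t, ht⟩ := hmul.map (Algebra.norm F)
    obtain ⟨u, hu⟩ := hN
    have hu0 : u ≠ 0 := fun h => Algebra.norm_ne_zero_iff.2 hc0 (by rw [hu, h, mul_zero])
    refine ⟨t / u, ?_⟩
    rw [map_mul, hu] at ht
    field_simp
    linear_combination ht

end FieldFacts

variable {F : Type u} [Field F] [Fintype F] {ι : Type} [Fintype ι] [DecidableEq ι]
variable {Q : QuadraticForm F (ι → F)}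

theorem det_one_add_comp {U W : Type*} [AddCommGroup U] [Module F U] [FiniteDimensional F U] [AddCommGroup W]
    [Module F W] [FiniteDimensional F W] (f : U →ₗ[F] W) (g : W →ₗ[F] U) :
    LinearMap.det (LinearMap.id + f ∘ₗ g) = LinearMap.det (LinearMap.id + g ∘ₗ f) := by
  classical
  set bU := Module.finBasis F U
  set bW := Module.finBasis F W
  rw [← LinearMap.det_toMatrix bW, ← LinearMap.det_toMatrix bU, map_add, map_add,
    LinearMap.toMatrix_comp bW bU bW, LinearMap.toMatrix_comp bU bW bU, LinearMap.toMatrix_id,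
    LinearMap.toMatrix_id]
  exact Matrix.det_one_add_mul_comm _ _

/-- Extension of a map of a non-degenerate plane over `K`. -/
theorem exists_torus_core {K : Type*} [Field K] [Fintype K] [Algebra F K] (h2 : (2 : F) ≠ 0)
    (hQ : (QuadraticMap.polarBilin Q).Nondegenerate) (hn : 2 ≤ Fintype.card ι) (a : ↥(Cfsg.isometryGroup F ⇑Q))
    (Φ : (Fin 2 → K) →ₗ[F] (ι → F)) (hB : LinearMap.Nondegenerate (Q.polarBilin.compl₁₂ Φ Φ))
    {s d : K} (hd : d ≠ 0) (hs : s ≠ 0) (hsd : d + 4 = s ^ 2)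
    (hΦa : ∀ u, Orth.app a (Φ u) = Φ (!![s / 2, d / 2; 1 / 2, s / 2] *ᵥ u))
    (hinv : ∀ x y : K, x ^ 2 - d * y ^ 2 = 1 → ∀ u w,
      polar Q (Φ (!![x, d * y; y, x] *ᵥ u)) (Φ (!![x, d * y; y, x] *ᵥ w)) = polar Q (Φ u) (Φ w)) :
    ∃ p : ↥(Cfsg.isometryGroup F ⇑Q),
      Commute p a ∧ Orth.detSign Q h2 hQ p = 1 ∧ Orth.spinor Q p = -1 := by
  classical
  haveI : Module.Finite F K := Module.Finite.of_finite
  have hK2 : (2 : K) ≠ 0 := by
    rw [← map_ofNat (algebraMap F K) 2]; exact (_root_.map_ne_zero _).2 h2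
  obtain ⟨w, hw⟩ := exists_one_sub_nonsquare hK2 hd hs hsd
  set D := 1 - d * w ^ 2 with hD
  have hD0 : D ≠ 0 := fun h => hw (h ▸ IsSquare.zero)
  set x := (1 + d * w ^ 2) / D with hx
  set y := 2 * w / D with hy
  have hxy : x ^ 2 - d * y ^ 2 = 1 := by
    rw [hx, hy]; field_simp; rw [hD]; ring
  set M : Matrix (Fin 2) (Fin 2) K := !![x, d * y; y, x] with hM
  set Ma : Matrix (Fin 2) (Fin 2) K := !![s / 2, d / 2; 1 / 2, s / 2] with hMa
  set T : (Fin 2 → K) →ₗ[F] (Fin 2 → K) := M.toLin'.restrictScalars F with hT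
  set L : (Fin 2 → K) →ₗ[F] (Fin 2 → K) := Ma.toLin'.restrictScalars F with hL
  have hTL : ∀ u, T (L u) = L (T u) := fun u => by
    show M *ᵥ (Ma *ᵥ u) = Ma *ᵥ (M *ᵥ u)
    rw [mulVec_mulVec, mulVec_mulVec]
    congr 1
    ext i j
    fin_cases i <;> fin_cases j <;> simp [hM, hMa, Matrix.mul_apply, Fin.sum_univ_two] <;> ring
  set B : LinearMap.BilinForm F (Fin 2 → K) := Q.polarBilin.compl₁₂ Φ Φ with hBdef
  set G : (ι → F) →ₗ[F] (Fin 2 → K) :=
    (B.toDual hB).symm.toLinearMap ∘ₗ (Φ.dualMap ∘ₗ Q.polarBilin) with hG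
  have hGs : ∀ v u, polar Q (Φ (G v)) (Φ u) = polar Q v (Φ u) := fun v u =>
    LinearMap.BilinForm.apply_toDual_symm_apply (hB := hB) (Φ.dualMap (Q.polarBilin v)) u
  have hGΦ : ∀ u, G (Φ u) = u := fun u => sub_eq_zero.1 (hB.1 _ fun u' => by
    show polar Q (Φ (G (Φ u) - u)) (Φ u') = 0
    rw [map_sub, sub_eq_add_neg, polar_add_left, polar_neg_left, hGs, add_neg_cancel])
  have hLs : Function.Surjective L := by
    have hdet : Ma.det ≠ 0 := by
      rw [hMa, det_fin_two_of, show s / 2 * (s / 2) - d / 2 * (1 / 2) = 1 by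
        field_simp
        linear_combination -hsd]
      exact one_ne_zero
    intro u
    exact (Matrix.mulVec_surjective_iff_isUnit.2 ((Matrix.isUnit_iff_isUnit_det _).2 (Ne.isUnit hdet))) u
  have hGa : ∀ v, G (Orth.app a v) = L (G v) := fun v => sub_eq_zero.1 (hB.1 _ fun u' => by
    obtain ⟨u, rfl⟩ := hLs u'
    show polar Q (Φ (G (Orth.app a v) - L (G v))) (Φ (L u)) = 0
    rw [map_sub, sub_eq_add_neg, polar_add_left, polar_neg_left, hGs]
    show polar Q (Orth.app a v) (Φ (Ma *ᵥ u)) + -polar Q (Φ (Ma *ᵥ G v)) (Φ (Ma *ᵥ u)) = 0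
    rw [← hΦa, ← hΦa, Orth.polar_app, Orth.polar_app, hGs, add_neg_cancel])
  -- extension by the identity
  let ext (S : (Fin 2 → K) →ₗ[F] (Fin 2 → K)) : (ι → F) →ₗ[F] (ι → F) :=
    LinearMap.id + Φ ∘ₗ ((S - LinearMap.id) ∘ₗ G)
  have hdet : ∀ S, LinearMap.det (ext S) = LinearMap.det S := fun S => by
    rw [det_one_add_comp]
    congr 1
    refine LinearMap.ext fun u => ?_
    simp [hGΦ]
  set z := ext T with hz
  have hzapp : ∀ v, z v = v + Φ (T (G v) - G v) := fun v => rfl
  have hzpol : ∀ v v', polar Q (z v) (z v') = polar Q v v' := by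
    intro v v'
    have h1 : polar Q (Φ (T (G v))) (Φ (T (G v'))) = polar Q (Φ (G v)) (Φ (G v')) :=
      hinv x y hxy (G v) (G v')
    have h3 : ∀ u, polar Q v (Φ u) = polar Q (Φ (G v)) (Φ u) := fun u => (hGs v u).symm
    have h4 : ∀ u, polar Q (Φ u) v' = polar Q (Φ u) (Φ (G v')) := fun u => by
      rw [polar_comm, ← hGs, polar_comm]
    rw [hzapp, hzapp, polar_add_left, polar_add_right, polar_add_right, h3, h4, map_sub, map_sub]
    simp only [sub_eq_add_neg, polar_add_left, polar_add_right, polar_neg_left, polar_neg_right]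
    linear_combination h1
  have hzQ : ∀ v, Q (z v) = Q v := fun v => mul_left_cancel₀ h2 (by
    have h := hzpol v v
    rw [polar_self, polar_self, two_smul, two_smul] at h
    linear_combination h)
  set Z := LinearMap.toMatrix' z with hZ
  have hZv : ∀ v, Z *ᵥ v = z v := fun v => by
    rw [← Matrix.toLin'_apply, hZ, Matrix.toLin'_toMatrix']
  have hZdet : Z.det = 1 := by
    rw [hZ, LinearMap.det_toMatrix', hdet, hT, LinearMap.det_restrictScalars, LinearMap.det_toLin', hM,
      det_fin_two_of, show x * x - d * y * y = 1 by linear_combination hxy, map_one]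
  refine ⟨isoMk Z (by rw [hZdet]; exact one_ne_zero) (fun v => by rw [hZv, hzQ]), ?_, ?_, ?_⟩
  · refine Orth.isometry_ext fun v => ?_
    rw [Orth.app_mul, Orth.app_mul, app_isoMk, app_isoMk, hZv, hZv, hzapp, hzapp, Orth.app_add, hGa, hTL,
      ← map_sub L]
    congr 1
    exact (hΦa _).symm
  · show (if _ then (1 : ℤˣ) else -1) = 1
    rw [if_pos]
    exact hZdet
  · set c := (1 + x) / 2 with hc
    have hcN : ¬ IsSquare c := by
      intro h
      refine hw ?_
      have : c = D⁻¹ := by rw [hc, hx]; field_simp; rw [hD]; ring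
      rw [this, isSquare_inv] at h
      exact h
    have hP : ((2 : F)⁻¹ • (Z + 1)).det = Algebra.norm F c := by
      set S : (Fin 2 → K) →ₗ[F] (Fin 2 → K) := ((2 : K)⁻¹ • (M + 1)).toLin'.restrictScalars F with hS
      have hS' : ∀ u, (2 : F) • (S u) = T u + u := fun u => by
        show (2 : F) • (((2 : K)⁻¹ • (M + 1)) *ᵥ u) = M *ᵥ u + u
        rw [smul_mulVec, add_mulVec, one_mulVec, ← algebraMap_smul K (2 : F), map_ofNat, smul_smul,
          mul_inv_cancel₀ hK2, one_smul]
      have he : (2 : F)⁻¹ • (Z + 1) = LinearMap.toMatrix' (ext S) := by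
        refine Matrix.ext_iff_mulVec.mpr fun v => ?_
        rw [smul_mulVec, add_mulVec, one_mulVec, hZv, hzapp, ← Matrix.toLin'_apply, Matrix.toLin'_toMatrix']
        show _ = v + Φ (S (G v) - G v)
        have h := congrArg Φ (hS' (G v))
        rw [map_smul, map_add] at h
        rw [map_sub, map_sub]
        refine smul_right_injective _ h2 ?_
        simp only [smul_smul, mul_inv_cancel₀ h2, one_smul, smul_add, smul_sub, h, two_smul]
        abel
      rw [he, LinearMap.det_toMatrix', hdet, hS, LinearMap.det_restrictScalars, LinearMap.det_toLin']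
      congr 1
      rw [det_fin_two, hc, hM]
      simp
      field_simp
      linear_combination hxy
    have hP0 : ((2 : F)⁻¹ • (Z + 1)).det ≠ 0 := fun h0 =>
      not_isSquare_norm h2 hcN (by rw [← hP, h0]; exact IsSquare.zero)
    rw [spinor_zassenhaus hQ h2 hn _ hP0]
    refine (Int.units_eq_one_or _).resolve_left fun h => not_isSquare_norm h2 hcN ?_
    have h' := (sqsgn_one_iff _).1 h
    rw [← hP]
    exact h'

theorem aeval_commute {A X' : Matrix ι ι F} (h : Commute X' A) (f : F[X]) : Commute X' (aeval A f) := by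
  induction f using Polynomial.induction_on' with
  | add f g hf hg => rw [map_add]; exact hf.add_right hg
  | monomial n c =>
    rw [aeval_monomial]
    exact (Algebra.commute_algebraMap_right c X').mul_right (h.pow_right n)

theorem adj_aeval (hQ : (QuadraticMap.polarBilin Q).Nondegenerate) {S : Matrix ι ι F} (hS : adj Q S = S)
    (f : F[X]) : adj Q (aeval S f) = aeval S f := by
  induction f using Polynomial.induction_on' with
  | add f g hf hg => rw [map_add, (adj_antiHom hQ).map_add, hf, hg]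
  | monomial n c =>
    rw [aeval_monomial, ← Algebra.smul_def, adj_smul hQ, (adj_antiHom hQ).map_pow, hS]

theorem aeval_pow_card_pow (A : Matrix ι ι F) (f : F[X]) (k : ℕ) :
    (aeval A f) ^ Fintype.card F ^ k = aeval (A ^ Fintype.card F ^ k) f := by
  induction k with
  | zero => simp
  | succ k ih => rw [pow_succ, pow_mul, pow_mul, ih, ← map_pow, ← FiniteField.expand_card, expand_aeval]

/-- A proper isometry with spinor sign `-1` centralising `a`. -/
theorem exists_spinor_neg_comm (h2 : (2 : F) ≠ 0) (hQ : (QuadraticMap.polarBilin Q).Nondegenerate)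
    (hn : 2 ≤ Fintype.card ι) (a : ↥(Cfsg.isometryGroup F ⇑Q)) {r : ℕ} (hro : Odd r) (hr : (r : F) ≠ 0)
    (har : a ^ r = 1) (ha : a ≠ 1) :
    ∃ p : ↥(Cfsg.isometryGroup F ⇑Q),
      Commute p a ∧ Orth.detSign Q h2 hQ p = 1 ∧ Orth.spinor Q p = -1 := by
  classical
  obtain ⟨e, G₀, hS, -⟩ := exists_split h2 hQ a hro hr har 1
  set A := ((a : GL ι F) : Matrix ι ι F) with hA
  set A' := (((a : GL ι F)⁻¹ : GL ι F) : Matrix ι ι F) with hA'
  have hAA' : A * A' = 1 := Units.mul_inv _
  have hA'A : A' * A = 1 := Units.inv_mul _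
  have hAr : A ^ r = 1 := by
    rw [hA, ← Units.val_pow_eq_pow_val, ← SubgroupClass.coe_pow, har]; rfl
  have hr0 : 0 < r := hro.pos
  have hA'p : A' = A ^ (r - 1) := by
    calc A' = A' * A ^ r := by rw [hAr, Matrix.mul_one]
      _ = A' * A * A ^ (r - 1) := by rw [Matrix.mul_assoc, ← pow_succ', Nat.sub_add_cancel hr0]
      _ = A ^ (r - 1) := by rw [hA'A, Matrix.one_mul]
  obtain ⟨w, hw, hwe⟩ := hS.inv
  set S := A + A' with hSdef
  set δ := A - A' with hδdef
  have mS : S ∈ Subring.closure G₀ := add_mem hS.memA hS.memA'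
  have mδ : δ ∈ Subring.closure G₀ := sub_mem hS.memA hS.memA'
  have hSσ : S = aeval A (X + X ^ (r - 1) : F[X]) := by simp [hSdef, hA'p]
  -- a power fixing all polynomials in `A`
  obtain ⟨q', hq'⟩ : ∃ q', Fintype.card F ^ Nat.totient r = 1 + r * q' := by
    have hco : Nat.Coprime (Fintype.card F) r := by
      haveI : Fact (ringChar F).Prime := ⟨CharP.char_is_prime F _⟩
      obtain ⟨n, hp, hc⟩ := FiniteField.card F (ringChar F)
      rw [hc]
      refine Nat.Coprime.pow_left _ ((Nat.Prime.coprime_iff_not_dvd hp).2 fun h => hr ?_)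
      exact (ringChar.spec F r).2 h
    have h1 := Nat.ModEq.pow_totient hco
    have h1' : 1 ≤ Fintype.card F ^ Nat.totient r := Nat.one_le_pow _ _ Fintype.card_pos
    obtain ⟨q', hq'⟩ := (Nat.modEq_iff_dvd' h1').1 h1.symm
    exact ⟨q', by omega⟩
  set N := Fintype.card F ^ Nat.totient r with hN
  have hN2 : 2 ≤ N := le_trans Fintype.one_lt_card
    (Nat.le_self_pow (Nat.totient_pos.2 hr0).ne' _)
  have hfix : ∀ f : F[X], (aeval S f) ^ N = aeval S f := fun f => by
    rw [hSσ, ← aeval_comp, hN, aeval_pow_card_pow]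
    congr 2
    rw [← hN, hq', pow_add, pow_one, pow_mul, hAr, one_pow, Matrix.mul_one]
  have hadjA : adj Q A = A' := adj_isometry hQ a
  have hadjA' : adj Q A' = A := by rw [← hadjA, adj_adj hQ]
  have hadjS : adj Q S = S := by rw [hSdef, (adj_antiHom hQ).map_add, hadjA, hadjA']; exact add_comm _ _
  have hadjδ : adj Q δ = -δ := by rw [hδdef, (adj_antiHom hQ).map_sub, hadjA, hadjA', neg_sub]
  have hδδ : δ * δ = S * S - (4 : F) • 1 := by
    rw [hδdef, hSdef]
    simp only [sub_mul, mul_sub, add_mul, mul_add, hAA', hA'A]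
    match_scalars <;> ring
  have heS : Commute e S := hS.twist.commute hS.mem mS
  have heδ : Commute e δ := hS.twist.commute hS.mem mδ
  have hδS : Commute δ S := hS.twist.commute mδ mS
  have hAS : Commute A S := hS.twist.commute hS.memA mS
  have hAδ : Commute A δ := hS.twist.commute hS.memA mδ
  -- a moved vector and an irreducible factor
  obtain ⟨v0, hv0e, hv00⟩ : ∃ v, e *ᵥ v = v ∧ v ≠ 0 := by
    by_contra h
    push Not at h
    refine ha (Orth.isometry_ext fun v => ?_)
    rw [Orth.app_one]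
    exact hS.fixed v (h (e *ᵥ v) (by rw [mulVec_mulVec, hS.idem]))
  obtain ⟨g, hg, v1, hv1e, hv10, hv1g⟩ : ∃ g : F[X], Irreducible g ∧ ∃ v1, e *ᵥ v1 = v1 ∧ v1 ≠ 0 ∧
      aeval S g *ᵥ v1 = 0 := by
    suffices ∀ f : F[X], f ≠ 0 → ∀ v, e *ᵥ v = v → v ≠ 0 → aeval S f *ᵥ v = 0 →
        ∃ g : F[X], Irreducible g ∧ ∃ v1, e *ᵥ v1 = v1 ∧ v1 ≠ 0 ∧ aeval S g *ᵥ v1 = 0 by
      refine this (minpoly F S) (minpoly.ne_zero (Matrix.isIntegral S)) v0 hv0e hv00 ?_
      rw [minpoly.aeval, zero_mulVec]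
    intro f
    induction f using WfDvdMonoid.induction_on_irreducible with
    | zero => exact fun h => absurd rfl h
    | unit x hx =>
      intro _ v _ hv hxv
      exfalso
      obtain ⟨c, hc, rfl⟩ := Polynomial.isUnit_iff.1 hx
      rw [aeval_C, Algebra.algebraMap_eq_smul_one, smul_mulVec, one_mulVec] at hxv
      exact hv ((smul_eq_zero.1 hxv).resolve_left hc.ne_zero)
    | mul f i hf hi ih =>
      intro _ v hve hv hfv
      by_cases hfv' : aeval S f *ᵥ v = 0
      · exact ih hf v hve hv hfv'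
      · refine ⟨i, hi, aeval S f *ᵥ v, ?_, hfv', ?_⟩
        · rw [mulVec_mulVec, (aeval_commute heS f).eq, ← mulVec_mulVec, hve]
        · rw [mulVec_mulVec, ← map_mul]; exact hfv
  set Gm := aeval S g with hGm
  set P := Gm ^ (N - 1) with hP
  set E := e * (1 - P) with hE
  have hGP : Gm * P = Gm := by
    rw [hP, ← pow_succ', Nat.sub_add_cancel (by omega : 1 ≤ N), hGm, hfix]
  have hPP : P * P = P := by
    calc P * P = Gm ^ (N - 2) * (Gm * P) := by
          rw [← Matrix.mul_assoc, ← pow_succ, show N - 2 + 1 = N - 1 by omega, ← hP]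
      _ = P := by rw [hGP, ← pow_succ, show N - 2 + 1 = N - 1 by omega]
  have hPaev : P = aeval S (g ^ (N - 1)) := by rw [hP, hGm, map_pow]
  have heP : Commute e (1 - P) := (Commute.one_right e).sub_right (hPaev ▸ aeval_commute heS _)
  have hEE : E * E = E := by
    rw [hE, heP.eq, Matrix.mul_assoc, ← Matrix.mul_assoc e, heP.eq, Matrix.mul_assoc, hS.idem,
      ← Matrix.mul_assoc, sub_mul, mul_sub, mul_sub, hPP]
    simp
  have hGE : Gm * E = 0 := by
    rw [hE, heP.eq, ← Matrix.mul_assoc, mul_sub, Matrix.mul_one, hGP, sub_self, Matrix.zero_mul]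
  have hEadj : adj Q E = E := by
    rw [hE, (adj_antiHom hQ).map_mul, hS.self, (adj_antiHom hQ).map_sub, (adj_antiHom hQ).map_one, hPaev,
      adj_aeval hQ hadjS, ← hPaev, heP.eq]
  have hEv1 : E *ᵥ v1 = v1 := by
    have : P *ᵥ v1 = 0 := by
      rw [hP, show N - 1 = N - 2 + 1 by omega, pow_succ, ← mulVec_mulVec, hv1g, mulVec_zero]
    rw [hE, ← mulVec_mulVec, sub_mulVec, one_mulVec, this, sub_zero, hv1e]
  obtain ⟨v, hvE, hvQ⟩ : ∃ v, E *ᵥ v = v ∧ Q v ≠ 0 := by
    by_contra h
    push Not at h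
    refine hv10 (hQ.1 _ fun x => ?_)
    show polar Q v1 x = 0
    have h0 : ∀ y, Q (E *ᵥ y) = 0 := fun y => h _ (by rw [mulVec_mulVec, hEE])
    rw [← hEv1, ← hEE, ← mulVec_mulVec, polar_adj hQ, hEadj, polar, ← mulVec_add, h0, h0, h0]
    ring
  have hve : e *ᵥ v = v := by
    rw [← hvE, hE, mulVec_mulVec, ← Matrix.mul_assoc, hS.idem]
  have hGv : Gm *ᵥ v = 0 := by rw [← hvE, mulVec_mulVec, hGE, zero_mulVec]
  -- the field
  haveI : Fact (Irreducible g) := ⟨hg⟩
  let K := AdjoinRoot g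
  haveI : Module.Finite F K := (AdjoinRoot.powerBasis hg.ne_zero).finite
  haveI : Finite K := Module.finite_of_finite F
  letI : Fintype K := Fintype.ofFinite K
  let evf : K → ι → F := fun c => aeval S (Classical.choose (AdjoinRoot.mk_surjective c)) *ᵥ v
  have hev : ∀ f : F[X], evf (AdjoinRoot.mk g f) = aeval S f *ᵥ v := by
    intro f
    have h := Classical.choose_spec (AdjoinRoot.mk_surjective (AdjoinRoot.mk g f))
    obtain ⟨t, ht⟩ := AdjoinRoot.mk_eq_mk.1 h
    refine sub_eq_zero.1 ?_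
    rw [← sub_mulVec, ← map_sub, ht, map_mul, ← mulVec_mulVec, ← hGm]
    rw [show Gm *ᵥ (aeval S t *ᵥ v) = aeval S t *ᵥ (Gm *ᵥ v) by
      rw [mulVec_mulVec, mulVec_mulVec, hGm, ← map_mul, ← map_mul, mul_comm]]
    rw [hGv, mulVec_zero]
  let ev : K →ₗ[F] (ι → F) :=
    { toFun := evf
      map_add' := fun c c' => by
        obtain ⟨f, rfl⟩ := AdjoinRoot.mk_surjective c
        obtain ⟨f', rfl⟩ := AdjoinRoot.mk_surjective c'
        rw [← map_add, hev, hev, hev, map_add, add_mulVec]
      map_smul' := fun k c => by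
        obtain ⟨f, rfl⟩ := AdjoinRoot.mk_surjective c
        rw [AdjoinRoot.smul_mk, hev, hev, map_smul, smul_mulVec, RingHom.id_apply] }
  let Φ : (Fin 2 → K) →ₗ[F] (ι → F) :=
    ev ∘ₗ LinearMap.proj 0 + δ.mulVecLin ∘ₗ ev ∘ₗ LinearMap.proj 1
  have hΦ : ∀ u, Φ u = ev (u 0) + δ *ᵥ ev (u 1) := fun u => rfl
  -- the trace form
  let φ : K → F := fun c => polar Q (ev c) v
  have hee : ∀ c c', polar Q (ev c) (ev c') = φ (c * c') := by
    intro c c'
    obtain ⟨f, rfl⟩ := AdjoinRoot.mk_surjective c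
    obtain ⟨f', rfl⟩ := AdjoinRoot.mk_surjective c'
    show polar Q (evf _) (evf _) = polar Q (evf _) v
    rw [← map_mul, hev, hev, hev, mul_comm f f', map_mul, ← mulVec_mulVec]
    conv_rhs => rw [polar_adj hQ, adj_aeval hQ hadjS]
  have hdv : ∀ c, δ *ᵥ (δ *ᵥ ev c) = ev ((AdjoinRoot.mk g (X * X - C 4)) * c) := by
    intro c
    obtain ⟨f, rfl⟩ := AdjoinRoot.mk_surjective c
    show _ = evf _
    show δ *ᵥ (δ *ᵥ evf _) = _
    rw [← map_mul, hev, hev, map_mul, mulVec_mulVec, hδδ, ← mulVec_mulVec]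
    congr 1
    simp [Algebra.algebraMap_eq_smul_one]
  have hed : ∀ c c', polar Q (ev c) (δ *ᵥ ev c') = 0 := by
    intro c c'
    obtain ⟨f, rfl⟩ := AdjoinRoot.mk_surjective c
    obtain ⟨f', rfl⟩ := AdjoinRoot.mk_surjective c'
    show polar Q (evf _) (δ *ᵥ evf _) = 0
    rw [hev, hev, polar_adj hQ, adj_aeval hQ hadjS, mulVec_mulVec, mulVec_mulVec,
      ← (aeval_commute hδS f).eq, Matrix.mul_assoc, ← map_mul]
    set X' := δ * aeval S (f * f') with hX'
    have hX : adj Q X' = -X' := by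
      rw [hX', (adj_antiHom hQ).map_mul, adj_aeval hQ hadjS, hadjδ, Matrix.mul_neg,
        (aeval_commute hδS _).eq]
    have h := polar_adj hQ X' v v
    rw [hX, neg_mulVec, polar_neg_right, polar_comm] at h
    exact (mul_eq_zero.1 (by linear_combination h : (2 : F) * polar Q v (X' *ᵥ v) = 0)).resolve_left h2
  set dK := AdjoinRoot.mk g (X * X - C 4) with hdK
  have hdd : ∀ c c', polar Q (δ *ᵥ ev c) (δ *ᵥ ev c') = -φ (dK * (c * c')) := by
    intro c c'
    rw [polar_adj hQ, hadjδ, neg_mulVec, polar_neg_right, hdv, hee, mul_left_comm]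
  have hΦΦ : ∀ u u', polar Q (Φ u) (Φ u') = φ (u 0 * u' 0) - φ (dK * (u 1 * u' 1)) := by
    intro u u'
    rw [hΦ, hΦ, polar_add_left, polar_add_right, polar_add_right, hee, hed, hdd,
      polar_comm (⇑Q) (δ *ᵥ ev (u 1)), hed]
    ring
  have hφadd : ∀ c c', φ (c + c') = φ c + φ c' := fun c c' => by
    show polar Q _ v = _
    rw [map_add, polar_add_left]
  have hφ1 : φ 1 ≠ 0 := by
    show polar Q (evf 1) v ≠ 0
    rw [← map_one (AdjoinRoot.mk g), hev, map_one, one_mulVec, polar_self, two_smul]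
    intro h
    exact hvQ (mul_left_cancel₀ h2 (by linear_combination h))
  have hev0 : ∀ c, φ c ≠ 0 → c ≠ 0 := fun c hc h => hc (by
    show polar Q (ev c) v = 0
    rw [h, map_zero, polar_zero_left])
  have hdK0 : dK ≠ 0 := by
    intro h
    have h1 : δ *ᵥ (δ *ᵥ ev 1) = 0 := by rw [hdv, h, zero_mul, map_zero]
    have hev1 : ev 1 = v := by
      show evf 1 = v
      rw [← map_one (AdjoinRoot.mk g), hev, map_one, one_mulVec]
    rw [hev1] at h1
    have hwd : Commute w δ := hS.twist.commute hw mδ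
    have h3 : δ * w * (δ * w) = w * w * (δ * δ) := by
      rw [← hwd.eq]; exact hwd.mul_mul_mul_comm w δ |>.symm |>.trans rfl
    have h4 : (δ * w) *ᵥ v = v := by
      conv_lhs => rw [← hve]
      rw [mulVec_mulVec, hwe, hve]
    refine hvQ ?_
    rw [← h4, ← h4, mulVec_mulVec, h3, ← mulVec_mulVec, ← mulVec_mulVec v δ δ, h1, mulVec_zero,
      QuadraticMap.map_zero]
  have hsK0 : AdjoinRoot.mk g X ≠ 0 := by
    intro h
    have h1 : S *ᵥ v = 0 := by
      have h' := hev X
      rw [h, aeval_X] at h'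
      rw [← h']
      exact map_zero ev
    have h3 : (A * A) *ᵥ v = -v := by
      have h4 : (A * S) *ᵥ v = 0 := by rw [← mulVec_mulVec, h1, mulVec_zero]
      rw [hSdef, mul_add, hAA', add_mulVec, one_mulVec] at h4
      exact eq_neg_of_add_eq_zero_left h4
    have h5 : ∀ j : ℕ, (A * A) ^ j *ᵥ v = (-1 : F) ^ j • v := by
      intro j
      induction j with
      | zero => simp
      | succ j ih => rw [pow_succ', ← mulVec_mulVec, ih, mulVec_smul, h3, pow_succ, mul_smul, neg_one_smul,
          smul_neg]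
    have h6 := h5 r
    rw [(Commute.refl A).mul_pow, hAr, Matrix.one_mul, one_mulVec, hro.neg_one_pow, neg_one_smul] at h6
    refine hvQ ?_
    have : (2 : F) • v = 0 := by rw [two_smul]; nth_rewrite 1 [h6]; exact neg_add_cancel v
    rw [(smul_eq_zero.1 this).resolve_left h2, QuadraticMap.map_zero]
  refine exists_torus_core h2 hQ hn a Φ ?_ (s := AdjoinRoot.mk g X) (d := dK) hdK0 hsK0 ?_ ?_ ?_
  · have hsep : ∀ u, (∀ u', polar Q (Φ u) (Φ u') = 0) → u = 0 := by
      intro u hu
      have h0 : u 0 = 0 := by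
        by_contra h
        have := hu ![(u 0)⁻¹, 0]
        rw [hΦΦ] at this
        simp only [Matrix.cons_val_zero, Matrix.cons_val_one, mul_inv_cancel₀ h, mul_zero] at this
        rw [show φ 0 = 0 from by show polar Q (ev 0) v = 0; rw [map_zero, polar_zero_left], sub_zero] at this
        exact hφ1 this
      have h1 : u 1 = 0 := by
        by_contra h
        have := hu ![0, (dK * u 1)⁻¹]
        rw [hΦΦ] at this
        simp only [Matrix.cons_val_zero, Matrix.cons_val_one, mul_zero] at this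
        rw [← mul_assoc, mul_inv_cancel₀ (mul_ne_zero hdK0 h),
          show φ 0 = 0 from by show polar Q (ev 0) v = 0; rw [map_zero, polar_zero_left], zero_sub,
          neg_eq_zero] at this
        exact hφ1 this
      funext i
      fin_cases i
      · exact h0
      · exact h1
    exact ⟨hsep, fun u hu => hsep u fun u' => by rw [polar_comm]; exact hu u'⟩
  · rw [hdK, map_sub, map_mul, AdjoinRoot.mk_C, map_ofNat]; ring
  · intro u
    have h2' : A = (2 : F)⁻¹ • (S + δ) := by
      rw [hSdef, hδdef, show A + A' + (A - A') = (2 : F) • A by rw [two_smul]; abel, inv_smul_smul₀ h2]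
    show A *ᵥ _ = _
    rw [h2', hΦ, hΦ, smul_mulVec, add_mulVec, mulVec_add, mulVec_add, hdv]
    have hSev : ∀ c, S *ᵥ ev c = ev (AdjoinRoot.mk g X * c) := by
      intro c
      obtain ⟨f, rfl⟩ := AdjoinRoot.mk_surjective c
      show S *ᵥ evf _ = evf _
      rw [← map_mul, hev, hev, map_mul, aeval_X, mulVec_mulVec]
    rw [mulVec_mulVec _ S δ, ← hδS.eq, ← mulVec_mulVec, hSev, hSev]
    have h2K : ∀ c, ev ((2 : K)⁻¹ * c) = (2 : F)⁻¹ • ev c := fun c => by
      rw [← map_smul, Algebra.smul_def, map_inv₀, map_ofNat]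
    simp only [Matrix.mulVec, dotProduct, Fin.sum_univ_two, Matrix.cons_val_zero, Matrix.cons_val_one,
      Matrix.cons_val', Matrix.empty_val', Matrix.cons_val_fin_one, Matrix.of_apply]
    rw [show AdjoinRoot.mk g X / 2 * u 0 + dK / 2 * u 1
        = (2 : K)⁻¹ * (AdjoinRoot.mk g X * u 0 + dK * u 1) by ring,
      show 1 / 2 * u 0 + AdjoinRoot.mk g X / 2 * u 1
        = (2 : K)⁻¹ * (u 0 + AdjoinRoot.mk g X * u 1) by ring, h2K, h2K]
    change _ = (2 : F)⁻¹ • ev _ + δ.mulVecLin ((2 : F)⁻¹ • ev _)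
    rw [map_smul, map_add, map_add, Matrix.mulVecLin_apply, mulVec_add]
    module
  · intro x y hxy u w
    rw [hΦΦ, hΦΦ]
    simp only [Matrix.mulVec, dotProduct, Fin.sum_univ_two, Matrix.cons_val_zero, Matrix.cons_val_one,
      Matrix.cons_val', Matrix.empty_val', Matrix.cons_val_fin_one, Matrix.of_apply]
    rw [sub_eq_sub_iff_add_eq_add, ← hφadd, ← hφadd]
    congr 1
    linear_combination (u 0 * w 0 - dK * (u 1 * w 1)) * hxy

end Cfsg.Agent.Lib.POmegaSemi
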