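import Mathlib
import Cfsg.Agent.Lib.POmegaSemi.Torus
import Cfsg.Agent.Lib.POmegaDiag.Final

/-!
Fusion of the classes of automorphisms of odd order induced by similitudes.
-/

set_option autoImplicit false
set_option linter.unusedSectionVars false
set_option linter.style.haveILetI false

namespace Cfsg.Agent.Lib.POmegaSemi

open QuadraticMap Matrix
open Cfsg.Agent.Lib.POmegaDiag

universe u

variable {F : Type u} [Field F] [Fintype F] {ι : Type} [Fintype ι] [DecidableEq ι]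
variable {Q : QuadraticForm F (ι → F)} {n : ℕ}

/-- An odd order automorphism induced by a similitude comes from an isometry of the same order. -/
theorem exists_iso_lift (E : EvenForm Q n) {x : MulAut (Cfsg.POmega F ⇑Q)} (hx : x ∈ Cfsg.pgoAut F ⇑Q)
    {r : ℕ} (hro : Odd r) (hxr : x ^ r = 1) :
    ∃ a : ↥(Cfsg.isometryGroup F ⇑Q), simAut (ofIso a) = x ∧ a ^ r = 1 := by
  rw [E.pgoAut_eq] at hx
  obtain ⟨g, -, rfl⟩ := hx
  have hev : Even (r + 1) := hro.add_one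
  have hsign : ∀ χ : Sim Q →* ℤˣ, χ (g ^ (r + 1)) = 1 := fun χ => by
    rw [map_pow]
    rcases Int.units_eq_one_or (χ g) with h | h <;> rw [h]
    · exact one_pow _
    · exact hev.neg_one_pow
  obtain ⟨c, a, hca, -⟩ := E.exists_so (g := g ^ (r + 1))
    ⟨MonoidHom.mem_ker.2 (hsign E.musgn), MonoidHom.mem_ker.2 (hsign E.proper)⟩
  have hsa : simAut (ofIso a) = simAut g := by
    calc simAut (ofIso a) = simAut (scal c * ofIso a) := by rw [map_mul, E.simAut_scal, one_mul]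
      _ = simAut g := by rw [← hca, map_pow, pow_succ, hxr, one_mul]
  obtain ⟨d, hd⟩ := E.exists_scal_of_simAut (g := ofIso (a ^ r)) (by rw [map_pow, map_pow, hsa, hxr])
  have hd2 : (d : F) * (d : F) = 1 := by
    have h := congrArg mult hd
    rw [E.mult_ofIso, E.mult_scal] at h
    rw [← Units.val_mul, ← h, Units.val_one]
  rcases mul_self_eq_one_iff.1 hd2 with h1 | h1
  · refine ⟨a, hsa, E.ofIso_injective ?_⟩
    rw [hd, show d = 1 from Units.ext (by rw [h1, Units.val_one]), map_one, map_one]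
  · rw [show d = -1 from Units.ext (by rw [h1, Units.val_neg, Units.val_one]), ← E.negOne_eq] at hd
    have hd' := E.ofIso_injective hd
    have hz : Commute (Orth.negOne Q) a := Orth.isometry_ext fun v => by
      rw [Orth.app_mul, Orth.app_mul, Orth.app_negOne, Orth.app_negOne, Orth.app_neg]
    refine ⟨Orth.negOne Q * a, ?_, ?_⟩
    · rw [map_mul, map_mul, hsa, E.negOne_eq, E.simAut_scal, one_mul]
    · rw [hz.mul_pow, hd', ← pow_succ]
      obtain ⟨j, hj⟩ := hev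
      rw [hj, ← two_mul, pow_mul, pow_two]
      have h2 : Orth.negOne Q * Orth.negOne Q = 1 := Orth.isometry_ext fun v => by
        rw [Orth.app_mul, Orth.app_negOne, Orth.app_negOne, neg_neg, Orth.app_one]
      rw [h2, one_pow]

/-- A proper similitude of non-square multiplier centralising `a`. -/
theorem exists_k (E : EvenForm Q n) {g0 : Sim Q} (R : E.Root g0) (a : ↥(Cfsg.isometryGroup F ⇑Q)) {r : ℕ}
    (hro : Odd r) (hr : (r : F) ≠ 0) (har : a ^ r = 1) :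
    ∃ k : Sim Q, E.musgn k = -1 ∧ E.proper k = 1 ∧ Commute k (ofIso a) := by
  obtain ⟨k, hk, hka⟩ := exists_similitude_comm E.two E.nondeg a hro hr har (g0 : GL ι F) (mult g0)
    (fun v => Q_sv g0 v)
  set K : Sim Q := ⟨k, ⟨mult g0, hk⟩⟩ with hKdef
  have hm : mult K = mult g0 := Units.ext (E.mult_eq (g := K) hk)
  have hmu : E.musgn K = -1 := by rw [E.musgn_apply, hm, ← E.musgn_apply]; exact R.musgn
  have hKa : Commute K (ofIso a) := Subtype.ext hka
  rcases Int.units_eq_one_or (E.proper K) with hp | hp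
  · exact ⟨K, hmu, hp, hKa⟩
  rcases exists_fixed_or_isUnit E.two E.nondeg a hro hr har with ⟨v, hv, hQv⟩ | hu
  · refine ⟨K * ofIso (Orth.refl Q v hQv), ?_, ?_, hKa.mul_left ?_⟩
    · rw [map_mul, hmu, E.musgn_ofIso, mul_one]
    · rw [map_mul, hp, E.proper_ofIso, Orth.detSign_refl E.two E.nondeg hQv]; rfl
    · refine Commute.map ?_ ofIso
      refine Orth.isometry_ext fun x => ?_
      rw [Orth.app_mul, Orth.app_mul, Orth.app_refl, Orth.app_refl, Orth.app_sub, Orth.app_smul, hv]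
      congr 3
      conv_lhs => rw [← hv, Orth.polar_app]
  · exfalso
    have h := det_comm_similitude E.two E.nondeg E.dim a hu k (mult g0) hk hka
    rw [(E.proper_eq_one_iff K).2 (by rw [hm]; exact h)] at hp
    exact absurd hp (by decide)

theorem conj_drop {G : Type*} [Group G] (b k x : G) (h : k * x * k⁻¹ = x) :
    b * k * x * (b * k)⁻¹ = b * x * b⁻¹ :=
  calc b * k * x * (b * k)⁻¹ = b * (k * x * k⁻¹) * b⁻¹ := by group
    _ = b * x * b⁻¹ := by rw [h]

theorem simAut_ofIso_mem_poAut (E : EvenForm Q n) (b : ↥(Cfsg.isometryGroup F ⇑Q)) :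
    simAut (ofIso b) ∈ Cfsg.poAut F ⇑Q :=
  Subgroup.subset_closure ⟨(b : GL ι F), b.2, (E.isInduced_iff (ofIso b) _).2 rfl⟩

/-- The fusion statement for an even form. -/
theorem class_fusion (E : EvenForm Q n) {g0 : Sim Q} (R : E.Root g0) {x : MulAut (Cfsg.POmega F ⇑Q)}
    (hx : x ∈ Cfsg.pgoAut F ⇑Q) {r : ℕ} (hro : Odd r) (hr : (r : F) ≠ 0) (hxr : x ^ r = 1) (hx1 : x ≠ 1) :
    (∀ y, (Cfsg.IsConjUnder (Cfsg.Inn (Cfsg.POmega F ⇑Q)) x y ↔ Cfsg.IsConjUnder (E.proper.ker.map simAut) x y) ∧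
      (Cfsg.IsConjUnder (Cfsg.psoAut F ⇑Q) x y ↔ Cfsg.IsConjUnder (E.proper.ker.map simAut) x y)) ∧
    (∀ y, Cfsg.IsConjUnder (Cfsg.poAut F ⇑Q) x y ↔ Cfsg.IsConjUnder (Cfsg.pgoAut F ⇑Q) x y) := by
  obtain ⟨a, rfl, har⟩ := exists_iso_lift E hx hro hxr
  have ha1 : a ≠ 1 := fun h => hx1 (by rw [h, map_one, map_one])
  obtain ⟨k, hkm, hkp, hka⟩ := exists_k E R a hro hr har
  obtain ⟨p, hpa, hpd, hps⟩ := exists_spinor_neg_comm E.two E.nondeg E.card_two_le a hro hr har ha1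
  have hfix : ∀ h : Sim Q, Commute h (ofIso a) →
      simAut h * simAut (ofIso a) * (simAut h)⁻¹ = simAut (ofIso a) := fun h hc => by
    rw [← map_mul, hc.eq, map_mul, mul_inv_cancel_right]
  have hsplit : ∀ g : Sim Q, ∃ k' : Sim Q, Commute k' (ofIso a) ∧ E.proper k' = 1 ∧ E.musgn (g * k'⁻¹) = 1 := by
    intro g
    rcases Int.units_eq_one_or (E.musgn g) with h | h
    · exact ⟨1, Commute.one_left _, map_one _, by rw [inv_one, mul_one, h]⟩
    · exact ⟨k, hka, hkp, by rw [map_mul, map_inv, h, hkm]; rfl⟩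
  have hinn : ∀ y, Cfsg.IsConjUnder (E.proper.ker.map simAut) (simAut (ofIso a)) y →
      Cfsg.IsConjUnder (Cfsg.Inn (Cfsg.POmega F ⇑Q)) (simAut (ofIso a)) y := by
    rintro _ ⟨_, ⟨g, hg, rfl⟩, rfl⟩
    obtain ⟨k', hk', hk'p, hk'm⟩ := hsplit g
    obtain ⟨c, b, hcb, hbd⟩ := E.exists_so (g := g * k'⁻¹)
      ⟨MonoidHom.mem_ker.2 hk'm, MonoidHom.mem_ker.2 (by
        rw [map_mul, map_inv, MonoidHom.mem_ker.1 hg, hk'p, inv_one, one_mul])⟩
    have hg' : simAut g = simAut (ofIso b) * simAut k' := by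
      calc simAut g = simAut (g * k'⁻¹) * simAut k' := by rw [← map_mul, inv_mul_cancel_right]
        _ = _ := by rw [hcb, map_mul, E.simAut_scal, one_mul]
    have hconj : simAut g * simAut (ofIso a) * (simAut g)⁻¹
        = simAut (ofIso b) * simAut (ofIso a) * (simAut (ofIso b))⁻¹ := by
      rw [hg']; exact conj_drop _ _ _ (hfix k' hk')
    rcases Int.units_eq_one_or (Orth.spinor Q b) with hb | hb
    · exact ⟨simAut (ofIso b), E.ofIso_mem_innPre.2 ⟨hbd, Or.inl hb⟩, hconj⟩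
    · refine ⟨simAut (ofIso (b * p)), E.ofIso_mem_innPre.2 ⟨?_, Or.inl ?_⟩, hconj.trans ?_⟩
      · rw [map_mul, hbd, hpd, mul_one]
      · rw [map_mul, hb, hps]; rfl
      · rw [map_mul, map_mul]; exact (conj_drop _ _ _ (hfix (ofIso p) (hpa.map ofIso))).symm
  have hIP : Cfsg.Inn (Cfsg.POmega F ⇑Q) ≤ Cfsg.psoAut F ⇑Q := by
    rw [E.inn_eq, E.psoAut_eq]
    exact Subgroup.map_mono (Subgroup.map_mono fun s hs => ((E.mem_omega s).1 hs).1)
  have hPI : Cfsg.psoAut F ⇑Q ≤ E.proper.ker.map simAut := by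
    rw [E.psoAut_eq_map]; exact Subgroup.map_mono inf_le_right
  have mono : ∀ {H K : Subgroup (MulAut (Cfsg.POmega F ⇑Q))}, H ≤ K → ∀ {y},
      Cfsg.IsConjUnder H (simAut (ofIso a)) y → Cfsg.IsConjUnder K (simAut (ofIso a)) y :=
    fun hHK _ ⟨h, hh, e⟩ => ⟨h, hHK hh, e⟩
  refine ⟨fun y => ⟨⟨fun h => mono hPI (mono hIP h), hinn y⟩, ⟨mono hPI, fun h => mono hIP (hinn y h)⟩⟩,
    fun y => ⟨?_, ?_⟩⟩
  · refine mono ?_
    rw [Cfsg.poAut, Cfsg.autSubgroupOf, Subgroup.closure_le]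
    rintro β ⟨g, hg, hβ⟩
    exact Subgroup.subset_closure ⟨g, (ofIso ⟨g, hg⟩).2, hβ⟩
  · rw [E.pgoAut_eq]
    rintro ⟨_, ⟨g, -, rfl⟩, rfl⟩
    obtain ⟨k', hk', -, hk'm⟩ := hsplit g
    obtain ⟨c, b, hcb⟩ := E.exists_scal_mul hk'm
    have hg' : simAut g = simAut (ofIso b) * simAut k' := by
      calc simAut g = simAut (g * k'⁻¹) * simAut k' := by rw [← map_mul, inv_mul_cancel_right]
        _ = _ := by rw [hcb, map_mul, E.simAut_scal, one_mul]
    exact ⟨simAut (ofIso b), simAut_ofIso_mem_poAut E b, by rw [hg']; exact conj_drop _ _ _ (hfix k' hk')⟩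

/-- The fusion statement, transported to a given function and a given description of `Inndiag`. -/
theorem class_fusion_of (E : EvenForm Q n) {g0 : Sim Q} (R : E.Root g0) (Qf : (ι → F) → F) (hf : ⇑Q = Qf)
    (P : GL ι F → Prop) (hP : ∀ g : Sim Q, P g ↔ g ∈ E.proper.ker) {x : MulAut (Cfsg.POmega F Qf)}
    (hx : x ∈ Cfsg.pgoAut F Qf) {r : ℕ} (hro : Odd r) (hr : (r : F) ≠ 0) (hxr : x ^ r = 1) (hx1 : x ≠ 1) :
    (∀ y, (Cfsg.IsConjUnder (Cfsg.Inn (Cfsg.POmega F Qf)) x y ↔ Cfsg.IsConjUnder (indSub Qf P) x y) ∧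
      (Cfsg.IsConjUnder (Cfsg.psoAut F Qf) x y ↔ Cfsg.IsConjUnder (indSub Qf P) x y)) ∧
    (∀ y, Cfsg.IsConjUnder (Cfsg.poAut F Qf) x y ↔ Cfsg.IsConjUnder (Cfsg.pgoAut F Qf) x y) := by
  subst hf
  unfold indSub
  rw [E.autSubgroupOf_eq_map P _ hP]
  exact class_fusion E R hx hro hr hxr hx1

variable {p : ℕ} [Fact p.Prime] [CharP F p]

theorem odd_card_of (hp : p ≠ 2) : Odd (Fintype.card F) :=
  Nat.odd_iff.2 (FiniteField.odd_card_of_char_ne_two (by rwa [ringChar.eq F p]))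

theorem order_facts {G : Type*} [Group G] {x : G} {r : ℕ} (hr : r.Prime) (hrp : r ≠ p) (hxr : orderOf x = r) :
    (r : F) ≠ 0 ∧ x ^ r = 1 ∧ x ≠ 1 := by
  refine ⟨fun h => hrp ?_, hxr ▸ pow_orderOf_eq_one x, fun h => ?_⟩
  · exact ((Nat.prime_dvd_prime_iff_eq Fact.out hr).1 ((CharP.cast_eq_zero_iff F p r).1 h)).symm
  · rw [h, orderOf_one] at hxr
    exact hr.one_lt.ne hxr

end Cfsg.Agent.Lib.POmegaSemi
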